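import Mathlib
import Cfsg.Agent.INV.LyonsDeg

/-! Arithmetic of the generalized decomposition numbers in Lyons' theorem: the possible matrices. -/

set_option autoImplicit false

namespace CL.Lyons

def g1 (t : Ty) : ℤ := t.w * (1000 * t.b ^ 2 + 30 * (t.b * t.s) + t.b * t.a)
def g2 (t : Ty) : ℤ := t.w * (100000 * t.q + 1000 * t.s ^ 2 + 50 * t.o + t.s * t.a)
def g3 (t : Ty) : ℤ := t.w * t.a ^ 2

def types : List Ty := [⟨-1, -2, 2, 0, 3, 4⟩, ⟨-1, -2, 2, 1, 3, 2⟩, ⟨-1, -1, 1, 0, 2, 4⟩, ⟨-1, 0, 2, -1, 1, 4⟩, ⟨-1, 0, 2, 0, 1, 4⟩, ⟨-1, 1, 1, 0, 1, 4⟩, ⟨-1, 2, 2, 0, 0, 4⟩, ⟨-1, 2, 2, 1, 0, 2⟩, ⟨-1, 3, 3, 1, -1, 4⟩, ⟨-1, 3, 3, 1, 0, 4⟩, ⟨1, -2, 2, 0, 1, 4⟩, ⟨1, -2, 2, 1, 1, 2⟩, ⟨1, -1, 1, 0, 1, 4⟩, ⟨1, 0, 2, -1, 0, 4⟩, ⟨1, 0, 2, 0, 0, 4⟩, ⟨1, 1, 1, 0, -1, 4⟩, ⟨1, 1, 1, 0, 0, 4⟩, ⟨1, 1, 1, 0, 1, 4⟩, ⟨1,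 1, 3, -1, -1, 4⟩, ⟨1, 1, 3, -1, 0, 4⟩, ⟨1, 1, 3, 1, -1, 4⟩, ⟨1, 1, 3, 1, 0, 4⟩, ⟨1, 2, 2, 0, -2, 4⟩, ⟨1, 2, 2, 0, -1, 4⟩, ⟨1, 2, 2, 0, 0, 4⟩, ⟨1, 2, 2, 1, -2, 2⟩, ⟨1, 2, 2, 1, -1, 2⟩, ⟨1, 2, 2, 1, 0, 2⟩, ⟨1, 3, 3, 1, -3, 4⟩, ⟨1, 3, 3, 1, -2, 4⟩, ⟨1, 3, 3, 1, -1, 4⟩, ⟨1, 3, 3, 1, 0, 4⟩, ⟨1, 4, 4, 2, -3, 1⟩, ⟨1, 4, 4, 2, -2, 1⟩, ⟨1, 4, 4, 2, -1, 1⟩, ⟨-1, 0, 0, 0, 1, 1⟩, ⟨-1, 0, 0, 0, 2, 1⟩, ⟨1, 0, 0, 0, 0, 1⟩, ⟨1, 0, 0, 0, 1, 1⟩, ⟨2, 0, 0, 0, -1, 1⟩, ⟨2, 0, 0, 0, 0, 1⟩, ⟨0, -3, 3, 1, 3, 4⟩, ⟨0, -2, 2, 0, 2, 4⟩, ⟨0, -2, 2, 1, 2, 2⟩, ⟨0, -1, 1, 0, 1, 4⟩, ⟨0, -1, 1, 0, 2, 4⟩, ⟨0, -1, 3, -1, 1, 4⟩, ⟨0, -1, 3, 1, 1, 4⟩, ⟨0, 0, 2, -1, 1, 4⟩, ⟨0, 0, 2, 0, 1, 4⟩, ⟨0, 1, 1, 0, 0, 4⟩, ⟨0, 1, 1, 0, 1, 4⟩, ⟨0, 1, 3, -1, 0, 4⟩, ⟨0, 1, 3, 1, 0, 4⟩, ⟨0, 2, 2, 0, -1, 4⟩, ⟨0, 2, 2, 0, 0, 4⟩, ⟨0, 2, 2, 0, 1, 4⟩, ⟨0,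 2, 2, 1, -1, 2⟩, ⟨0, 2, 2, 1, 0, 2⟩, ⟨0, 2, 2, 1, 1, 2⟩, ⟨0, 2, 4, 0, -1, 4⟩, ⟨0, 2, 4, 0, 0, 4⟩, ⟨0, 3, 3, 1, -2, 4⟩, ⟨0, 3, 3, 1, -1, 4⟩, ⟨0, 3, 3, 1, 0, 4⟩, ⟨0, 4, 4, 2, -3, 1⟩, ⟨0, 4, 4, 2, -2, 1⟩, ⟨0, 4, 4, 2, -1, 1⟩, ⟨0, 4, 4, 2, 0, 1⟩, ⟨0, 0, 0, 0, 1, 1⟩, ⟨0, 0, 0, 0, 2, 1⟩]

def leaves : List (List Ty) := [[⟨1, 4, 4, 2, -1, 1⟩, ⟨-1, 0, 0, 0, 1, 1⟩, ⟨-1, 0, 0, 0, 1, 1⟩, ⟨1, 0, 0, 0, 0, 1⟩, ⟨0, -1, 1, 0, 1, 4⟩, ⟨0, -1, 1, 0, 1, 4⟩, ⟨0, -1, 1, 0, 1, 4⟩, ⟨0, 1, 1, 0, 0, 4⟩],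
  [⟨1, 4, 4, 2, -2, 1⟩, ⟨-1, 0, 0, 0, 2, 1⟩, ⟨1, 0, 0, 0, 0, 1⟩, ⟨1, 0, 0, 0, 1, 1⟩, ⟨0, 2, 4, 0, -1, 4⟩, ⟨0, 0, 0, 0, 1, 1⟩, ⟨0, 0, 0, 0, 1, 1⟩],
  [⟨1, 4, 4, 2, -2, 1⟩, ⟨-1, 0, 0, 0, 1, 1⟩, ⟨1, 0, 0, 0, 0, 1⟩, ⟨1, 0, 0, 0, 0, 1⟩, ⟨0, 2, 4, 0, -1, 4⟩, ⟨0, 0, 0, 0, 1, 1⟩, ⟨0, 0, 0, 0, 1, 1⟩, ⟨0, 0, 0, 0, 2, 1⟩],
  [⟨1, 4, 4, 2, -2, 1⟩, ⟨-1, 0, 0, 0, 1, 1⟩, ⟨1, 0, 0, 0, 0, 1⟩, ⟨1, 0, 0, 0, 0, 1⟩, ⟨0, 2, 4, 0, -1, 4⟩, ⟨0, 0, 0, 0, 1, 1⟩, ⟨0, 0, 0, 0, 1, 1⟩, ⟨0, 0, 0, 0, 1, 1⟩, ⟨0, 0, 0, 0, 1, 1⟩, ⟨0, 0, 0, 0, 1, 1⟩, ⟨0, 0, 0, 0, 1, 1⟩],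
  [⟨1, 4, 4, 2, -2, 1⟩, ⟨-1, 0, 0, 0, 1, 1⟩, ⟨1, 0, 0, 0, 0, 1⟩, ⟨1, 0, 0, 0, 0, 1⟩, ⟨0, 0, 2, 0, 1, 4⟩, ⟨0, 2, 2, 0, -1, 4⟩, ⟨0, 0, 0, 0, 1, 1⟩, ⟨0, 0, 0, 0, 1, 1⟩],
  [⟨1, 4, 4, 2, -2, 1⟩, ⟨-1, 0, 0, 0, 1, 1⟩, ⟨1, 0, 0, 0, 0, 1⟩, ⟨1, 0, 0, 0, 0, 1⟩, ⟨0, 0, 2, -1, 1, 4⟩, ⟨0, 2, 2, 1, -1, 2⟩, ⟨0, 2, 2, 1, -1, 2⟩, ⟨0, 0, 0, 0, 1, 1⟩, ⟨0, 0, 0, 0, 1, 1⟩],
  [⟨1, 4, 4, 2, -2, 1⟩, ⟨-1, 0, 0, 0, 1, 1⟩, ⟨1, 0, 0, 0, 0, 1⟩, ⟨1, 0, 0, 0, 0, 1⟩, ⟨0, -1, 1, 0, 1, 4⟩, ⟨0, -1, 1, 0, 1, 4⟩, ⟨0, 1, 1, 0, 0, 4⟩, ⟨0, 1, 1, 0, 0, 4⟩, ⟨0, 0, 0, 0, 1, 1⟩, ⟨0, 0, 0, 0, 1, 1⟩],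
  [⟨1, 4, 4, 2, -2, 1⟩, ⟨-1, 0, 0, 0, 1, 1⟩, ⟨-1, 0, 0, 0, 1, 1⟩, ⟨1, 0, 0, 0, 1, 1⟩, ⟨0, 2, 4, 0, -1, 4⟩, ⟨0, 0, 0, 0, 2, 1⟩],
  [⟨1, 4, 4, 2, -2, 1⟩, ⟨-1, 0, 0, 0, 1, 1⟩, ⟨-1, 0, 0, 0, 1, 1⟩, ⟨1, 0, 0, 0, 1, 1⟩, ⟨0, 2, 4, 0, -1, 4⟩, ⟨0, 0, 0, 0, 1, 1⟩, ⟨0, 0, 0, 0, 1, 1⟩, ⟨0, 0, 0, 0, 1, 1⟩, ⟨0, 0, 0, 0, 1, 1⟩],
  [⟨1, 4, 4, 2, -2, 1⟩, ⟨-1, 0, 0, 0, 1, 1⟩, ⟨-1, 0, 0, 0, 1, 1⟩, ⟨1, 0, 0, 0, 1, 1⟩, ⟨0, 0, 2, 0, 1, 4⟩, ⟨0, 2, 2, 0, -1, 4⟩],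
  [⟨1, 4, 4, 2, -2, 1⟩, ⟨-1, 0, 0, 0, 1, 1⟩, ⟨-1, 0, 0, 0, 1, 1⟩, ⟨1, 0, 0, 0, 1, 1⟩, ⟨0, 0, 2, -1, 1, 4⟩, ⟨0, 2, 2, 1, -1, 2⟩, ⟨0, 2, 2, 1, -1, 2⟩],
  [⟨1, 4, 4, 2, -2, 1⟩, ⟨-1, 0, 0, 0, 1, 1⟩, ⟨-1, 0, 0, 0, 1, 1⟩, ⟨1, 0, 0, 0, 1, 1⟩, ⟨0, -1, 1, 0, 1, 4⟩, ⟨0, -1, 1, 0, 1, 4⟩, ⟨0, 1, 1, 0, 0, 4⟩, ⟨0, 1, 1, 0, 0, 4⟩],
  [⟨1, 4, 4, 2, -3, 1⟩, ⟨1, 0, 0, 0, 0, 1⟩, ⟨1, 0, 0, 0, 0, 1⟩, ⟨1, 0, 0, 0, 0, 1⟩, ⟨0, 0, 2, -1, 1, 4⟩, ⟨0, 2, 2, 1, -1, 2⟩, ⟨0, 2, 2, 1, 0, 2⟩],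
  [⟨1, 4, 4, 2, -3, 1⟩, ⟨1, 0, 0, 0, 0, 1⟩, ⟨1, 0, 0, 0, 0, 1⟩, ⟨1, 0, 0, 0, 0, 1⟩, ⟨0, -1, 1, 0, 1, 4⟩, ⟨0, 1, 1, 0, 0, 4⟩, ⟨0, 1, 1, 0, 0, 4⟩, ⟨0, 1, 1, 0, 0, 4⟩, ⟨0, 0, 0, 0, 1, 1⟩, ⟨0, 0, 0, 0, 1, 1⟩],
  [⟨1, 4, 4, 2, -3, 1⟩, ⟨-1, 0, 0, 0, 1, 1⟩, ⟨1, 0, 0, 0, 0, 1⟩, ⟨1, 0, 0, 0, 1, 1⟩, ⟨0, -1, 1, 0, 1, 4⟩, ⟨0, 1, 1, 0, 0, 4⟩, ⟨0, 1, 1, 0, 0, 4⟩, ⟨0, 1, 1, 0, 0, 4⟩],
  [⟨1, 2, 2, 1, -1, 2⟩, ⟨-1, 0, 0, 0, 2, 1⟩, ⟨1, 0, 0, 0, 1, 1⟩, ⟨0, -1, 1, 0, 1, 4⟩, ⟨0, 1, 1, 0, 0, 4⟩, ⟨0, 2, 2, 0, -1, 4⟩],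
  [⟨1, 2, 2, 1, -1, 2⟩, ⟨-1, 0, 0, 0, 1, 1⟩, ⟨1, 0, 0, 0, 0, 1⟩, ⟨0, 0, 2, -1, 1, 4⟩, ⟨0, 2, 2, 1, -1, 2⟩, ⟨0, 4, 4, 2, -2, 1⟩, ⟨0, 0, 0, 0, 1, 1⟩, ⟨0, 0, 0, 0, 1, 1⟩],
  [⟨1, 2, 2, 1, -1, 2⟩, ⟨-1, 0, 0, 0, 1, 1⟩, ⟨1, 0, 0, 0, 0, 1⟩, ⟨0, -1, 1, 0, 1, 4⟩, ⟨0, 1, 1, 0, 0, 4⟩, ⟨0, 2, 2, 0, -1, 4⟩, ⟨0, 0, 0, 0, 2, 1⟩],
  [⟨1, 2, 2, 1, -1, 2⟩, ⟨-1, 0, 0, 0, 1, 1⟩, ⟨1, 0, 0, 0, 0, 1⟩, ⟨0, -1, 1, 0, 1, 4⟩, ⟨0, 1, 1, 0, 0, 4⟩, ⟨0, 2, 2, 0, -1, 4⟩, ⟨0, 0, 0, 0, 1, 1⟩, ⟨0, 0, 0, 0, 1, 1⟩, ⟨0, 0, 0, 0, 1, 1⟩, ⟨0, 0, 0, 0, 1, 1⟩],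
  [⟨1, 2, 2, 1, -2, 2⟩, ⟨1, 0, 0, 0, 0, 1⟩, ⟨1, 0, 0, 0, 1, 1⟩, ⟨0, 1, 1, 0, 0, 4⟩, ⟨0, 1, 1, 0, 0, 4⟩, ⟨0, 2, 2, 0, -1, 4⟩, ⟨0, 0, 0, 0, 1, 1⟩, ⟨0, 0, 0, 0, 1, 1⟩]]

def check : ℕ → List (Ty × ℕ × ℕ × ℕ) → ℕ → ℕ → ℕ → List Ty → Bool
  | 0, _, _, _, _, _ => false
  | _ + 1, [], a, b, c, acc => a != 0 || b != 0 || c != 0 || decide (acc.reverse ∈ leaves)
  | n + 1, r :: L, a, b, c, acc =>
    (a != 0 && (r :: L).all (·.2.1 == 0)) || (b != 0 && (r :: L).all (·.2.2.1 == 0)) ||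
    (check n L a b c acc && (a.blt r.2.1 || b.blt r.2.2.1 || c.blt r.2.2.2 ||
      check n (r :: L) (a - r.2.1) (b - r.2.2.1) (c - r.2.2.2) (r.1 :: acc)))

def code (t : Ty) : Ty × ℕ × ℕ × ℕ := (t, (g1 t).toNat, (g2 t).toNat, (g3 t).toNat)

theorem check_types : check 120 (types.map code) 4117 2032084 15 [] = true := by decide +kernel

theorem check_sound : ∀ (n : ℕ) (L : List Ty) (N : Multiset (Ty × ℤ)) (acc : List Ty),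
    (∀ p ∈ N, p.1 ∈ L) → check n (L.map code) (N.map fun p => (g1 p.1).toNat).sum
      (N.map fun p => (g2 p.1).toNat).sum (N.map fun p => (g3 p.1).toNat).sum acc = true →
    ∃ l : List (Ty × ℤ), N = l ∧ acc.reverse ++ l.map Prod.fst ∈ leaves
  | 0, _, _, _, _, h => by simp [check] at h
  | _ + 1, [], N, acc, hN, h => by
    obtain rfl : N = 0 := Multiset.eq_zero_of_forall_notMem fun p hp => by simpa using hN p hp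
    exact ⟨[], rfl, by simpa [check] using h⟩
  | n + 1, r :: L, N, acc, hN, h => by
    have h0 : ∀ f : Ty → ℕ, (∀ t ∈ r :: L, f t = 0) → (N.map fun p => f p.1).sum = 0 := fun f hf =>
      Multiset.sum_eq_zero fun x hx => by
        obtain ⟨p, hp, rfl⟩ := Multiset.mem_map.1 hx; exact hf _ (hN p hp)
    rw [List.map_cons, check, ← List.map_cons] at h
    simp only [Bool.or_eq_true, Bool.and_eq_true, bne_iff_ne, List.all_map, List.all_eq_true,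
      Function.comp, beq_iff_eq, Nat.blt_eq, code] at h
    rcases h with (⟨h1, h2⟩ | ⟨h1, h2⟩) | ⟨h1, h2⟩
    · exact absurd (h0 _ h2) h1
    · exact absurd (h0 _ h2) h1
    by_cases hr : ∃ p ∈ N, p.1 = r
    · obtain ⟨p, hp, rfl⟩ := hr
      obtain ⟨N, rfl⟩ := Multiset.exists_cons_of_mem hp
      simp only [Multiset.map_cons, Multiset.sum_cons, Nat.add_sub_cancel_left] at h2
      obtain ⟨l, rfl, hl⟩ := check_sound n (p.1 :: L) N (p.1 :: acc)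
        (fun q hq => hN q (Multiset.mem_cons_of_mem hq)) (h2.resolve_left (by omega))
      exact ⟨p :: l, rfl, by simpa using hl⟩
    · exact check_sound n L N acc (fun p hp => (List.mem_cons.1 (hN p hp)).resolve_left
        fun e => hr ⟨p, hp, e⟩) h1

theorem not_good (l : List (Ty × ℤ)) (h : l.map Prod.fst ∈ leaves) : ¬ Good l := by
  refine AllX.of l (P := fun l => ¬ Good l) ?_
  simp only [leaves, List.mem_cons, List.not_mem_nil, or_false] at h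
  rcases h with h | h | h | h | h | h | h | h | h | h | h | h | h | h | h | h | h | h | h | h <;> rw [h]
  exacts [c0, c1, c2, c3, c4, c5, c6, c7, c8, c9, c10, c11, c12, c13, c14, c15, c16, c17, c18, c19]

open Classical in
/-- an invariant multiset is a sum of orbits -/
theorem peel {β : Type} (τ : β → β) (h4 : ∀ p, τ (τ (τ (τ p))) = p) (M : Multiset β)
    (hM : M.map τ = M) : ∃ N : Multiset β, (∀ p ∈ N, p ∈ M) ∧ ∀ (R : Type) [CommRing R] (F : β → R),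
      (∀ p, F (τ p) = F p) → (M.map F).sum =
        (N.map fun p => ((if τ p = p then 1 else if τ (τ p) = p then 2 else 4 : ℕ) : R) * F p).sum := by
  induction M using Multiset.strongInductionOn with
  | ih M ih =>
  rcases M.empty_or_exists_mem with rfl | ⟨p, hp⟩
  · exact ⟨0, by simp, by simp⟩
  have hm : ∀ q ∈ M, τ q ∈ M := fun q hq => hM ▸ Multiset.mem_map_of_mem τ hq
  have hi : ∀ {x y}, τ x = τ y → x = y := fun {x y} e => by rw [← h4 x, e, h4]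
  obtain ⟨O, h0, hO, hτ, hF⟩ : ∃ O : Multiset β, O ≠ 0 ∧ O ≤ M ∧ O.map τ = O ∧
      ∀ (R : Type) [CommRing R] (F : β → R), (∀ p, F (τ p) = F p) → (O.map F).sum =
        ((if τ p = p then 1 else if τ (τ p) = p then 2 else 4 : ℕ) : R) * F p := by
    split_ifs with h1 h2
    · exact ⟨{p}, by simp, by simpa, by simpa, by simp⟩
    · refine ⟨{p, τ p}, by simp, (Multiset.le_iff_subset (by simpa using Ne.symm h1)).2 fun x hx => ?_,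
        by simpa [h2] using Multiset.pair_comm _ _, fun R _ F hF => by simp [hF, two_mul]⟩
      simp only [Multiset.insert_eq_cons, Multiset.mem_cons, Multiset.mem_singleton] at hx
      rcases hx with rfl | rfl
      exacts [hp, hm _ hp]
    · have h3 : τ (τ (τ p)) ≠ p := fun e => h1 (by rw [← e, h4, e])
      refine ⟨{p, τ p, τ (τ p), τ (τ (τ p))}, by simp, (Multiset.le_iff_subset ?_).2 fun x hx => ?_,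
        ?_, fun R _ F hF => by simp only [Multiset.insert_eq_cons, Multiset.map_cons,
          Multiset.map_singleton, Multiset.sum_cons, Multiset.sum_singleton, hF]; push_cast; ring⟩
      · simp only [Multiset.insert_eq_cons, Multiset.nodup_cons, Multiset.mem_cons,
          Multiset.mem_singleton, not_or, Multiset.nodup_singleton, and_true]
        exact ⟨⟨Ne.symm h1, Ne.symm h2, h3.symm⟩, ⟨fun e => h1 (hi e).symm, fun e => h2 (hi e).symm⟩,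
          fun e => h1 (hi (hi e)).symm⟩
      · simp only [Multiset.insert_eq_cons, Multiset.mem_cons, Multiset.mem_singleton] at hx
        rcases hx with rfl | rfl | rfl | rfl
        exacts [hp, hm _ hp, hm _ (hm _ hp), hm _ (hm _ (hm _ hp))]
      · simp only [Multiset.insert_eq_cons, Multiset.map_cons, Multiset.map_singleton, h4]
        simp only [← Multiset.singleton_add]; abel
  obtain ⟨M, rfl⟩ := Multiset.le_iff_exists_add.1 hO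
  rw [Multiset.map_add, hτ, add_right_inj] at hM
  obtain ⟨N, hN, hs⟩ := ih M (by simpa [pos_iff_ne_zero] using h0) hM
  refine ⟨p ::ₘ N, fun q hq => ?_, fun R _ F h => ?_⟩
  · rcases Multiset.mem_cons.1 hq with rfl | hq
    exacts [hp, Multiset.mem_add.2 (.inr (hN q hq))]
  · rw [Multiset.map_add, Multiset.sum_add, hF R F h, hs R F h, Multiset.map_cons, Multiset.sum_cons]

def mk (b₀ b₁ b₂ b₃ b₄ a : ℤ) : Ty := ⟨b₀, b₁ + b₂ + b₃ + b₄, (b₁ ^ 2 + b₂ ^ 2 + b₃ ^ 2 + b₄ ^ 2).toNat,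
  b₁ * b₄ + b₂ * b₃, a, if b₂ = b₁ ∧ b₄ = b₂ ∧ b₁ = b₃ ∧ b₃ = b₄ then 1 else
    if b₄ = b₁ ∧ b₃ = b₂ ∧ b₂ = b₃ ∧ b₁ = b₄ then 2 else 4⟩

theorem mk_mem : ∀ b₀ ∈ [-2, -1, 0, 1, 2], ∀ b₁ ∈ [-2, -1, 0, 1, 2], ∀ b₂ ∈ [-2, -1, 0, 1, 2],
    ∀ b₃ ∈ [-2, -1, 0, 1, 2], ∀ b₄ ∈ [-2, -1, 0, 1, 2], ∀ a ∈ [-3, -2, -1, 0, 1, 2, 3],
    9 * a ^ 2 + 8 * ((b₀ + b₁ + b₂ + b₃ + b₄) * a) +
      16 * (b₀ ^ 2 + b₁ ^ 2 + b₂ ^ 2 + b₃ ^ 2 + b₄ ^ 2) ≤ 64 → 0 < (mk b₀ b₁ b₂ b₃ b₄ a).v →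
    mk b₀ b₁ b₂ b₃ b₄ a ∈ types := by decide +kernel

theorem types_nonneg : ∀ t ∈ types, 0 ≤ g1 t ∧ 0 ≤ g2 t ∧ 0 ≤ g3 t := by decide +kernel

abbrev Row := (Fin 6 → ℤ) × ℤ

def tau (p : Row) : Row := (![p.1 0, p.1 2, p.1 4, p.1 1, p.1 3, p.1 5], p.2)

def ty (r : Fin 6 → ℤ) : Ty := mk (r 0) (r 1) (r 2) (r 3) (r 4) (r 5)

def gram (j k : Fin 6) : ℤ :=
  if j = k then (if j = 5 then 16 else 5) else if j = 5 ∨ k = 5 then -4 else 1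

theorem ty_tau (p : Row) : ty (tau p).1 = ty p.1 := by
  simp only [ty, tau, mk, Ty.mk.injEq]
  simp only [Matrix.cons_val, true_and]
  refine ⟨by ring, by ring_nf, by ring, ?_⟩
  exact if_congr (by omega) rfl (if_congr (by omega) rfl rfl)

theorem ty_w (p : Row) [Decidable (tau p = p)] [Decidable (tau (tau p) = p)] :
    (if tau p = p then 1 else if tau (tau p) = p then 2 else 4 : ℕ) = (ty p.1).w := by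
  simp [tau, ty, mk, Prod.ext_iff, funext_iff, Fin.forall_fin_succ]

theorem no_rows' {ι : Type*} [DecidableEq ι] (s : Finset ι) (r : ι → Fin 6 → ℤ) (X : ι → ℤ) {i₀ : ι}
    (h0 : i₀ ∈ s) (r0 : r i₀ = ![-1, 0, 0, 0, 0, 1]) (X0 : X i₀ = 1) (π : Equiv.Perm ι)
    (hπ : ∀ i, π i ∈ s ↔ i ∈ s) (hπ0 : π i₀ = i₀) (hτ : ∀ i ∈ s, (r (π i), X (π i)) = tau (r i, X i))
    (hG : ∀ j k, ∑ i ∈ s, r i j * r i k = gram j k) (hL : ∀ j, ∑ i ∈ s, r i j * X i = 0)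
    (hv : ∀ i ∈ s, 0 < (ty (r i)).v) (hX : ∀ i ∈ s, i ≠ i₀ → Adm (ty (r i)) (X i)) {κ : ℚ}
    (hκ : 0 ≤ κ) (hR : ∀ j, ∑ i ∈ s, ((r i j * (ty (r i)).v ^ 2 : ℤ) : ℚ) * (X i : ℚ)⁻¹ =
      if j = 5 then 0 else κ) : False := by
  have hb : ∀ i ∈ s, ∀ j, r i j * r i j ≤ gram j j := fun i hi j =>
    hG j j ▸ Finset.single_le_sum (f := fun i => r i j * r i j) (fun _ _ => mul_self_nonneg _) hi
  have hty : ∀ i ∈ s, i ≠ i₀ → ty (r i) ∈ types := fun i hi hne => by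
    have b2 : ∀ j, j ≠ 5 → r i j ∈ [-2, -1, 0, 1, 2] := fun j hj => by
      have := hb i hi j
      simp only [gram, if_true, if_neg hj] at this
      have h1 : r i j < 3 := by nlinarith
      have h2 : -3 < r i j := by nlinarith
      simp only [List.mem_cons, List.not_mem_nil]; omega
    have b3 : r i 5 ∈ [-3, -2, -1, 0, 1, 2, 3] := by
      have := Finset.add_le_sum (f := fun i => r i 5 * r i 5) (fun _ _ => mul_self_nonneg _) hi h0 hne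
      rw [hG, r0] at this
      simp only [gram, if_true, Matrix.cons_val] at this
      have h1 : r i 5 < 4 := by nlinarith
      have h2 : -4 < r i 5 := by nlinarith
      simp only [List.mem_cons, List.not_mem_nil]; omega
    refine mk_mem _ (b2 0 (by decide)) _ (b2 1 (by decide)) _ (b2 2 (by decide)) _ (b2 3 (by decide)) _
      (b2 4 (by decide)) _ b3 ?_ (hv i hi)
    set c : Fin 6 → ℤ := fun j => if j = 5 then 9 * r i 5 + 4 * (r i 0 + r i 1 + r i 2 + r i 3 + r i 4)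
      else 16 * r i j + 4 * r i 5 with hc
    have h1 : (∑ j, c j * r i j) ^ 2 ≤ ∑ j, ∑ k, c j * c k * gram j k := by
      refine (Finset.single_le_sum (f := fun i => (∑ j, c j * r i j) ^ 2) (fun _ _ => sq_nonneg _)
        hi).trans_eq ?_
      simp only [sq, Finset.sum_mul_sum]
      simp only [← hG, Finset.mul_sum]
      rw [Finset.sum_comm]
      refine Finset.sum_congr rfl fun j _ => ?_
      rw [Finset.sum_comm]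
      exact Finset.sum_congr rfl fun k _ => Finset.sum_congr rfl fun _ _ => by ring
    have h2 : ∑ j, ∑ k, c j * c k * gram j k = 64 * ∑ j, c j * r i j := by
      simp [Fin.sum_univ_succ, gram, hc]; ring
    have h3 : ∑ j, c j * r i j ≤ 64 := by nlinarith
    simp [Fin.sum_univ_succ, hc] at h3
    linarith
  have hM : ((s.erase i₀).val.map fun i => (r i, X i)).map tau =
      (s.erase i₀).val.map fun i => (r i, X i) := by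
    have : (s.erase i₀).map π.toEmbedding = s.erase i₀ := Finset.eq_of_subset_of_card_le
      (fun i' hi' => by
        obtain ⟨i, hi, rfl⟩ := Finset.mem_map.1 hi'
        exact Finset.mem_erase.2 ⟨fun e => (Finset.mem_erase.1 hi).1 (π.injective (e.trans hπ0.symm)),
          (hπ i).2 (Finset.mem_erase.1 hi).2⟩) (by rw [Finset.card_map])
    conv_rhs => rw [← this, Finset.map_val, Multiset.map_map]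
    rw [Multiset.map_map]
    exact Multiset.map_congr rfl fun i hi => (hτ i (Finset.mem_erase.1 hi).2).symm
  obtain ⟨N, hN, hs⟩ := peel tau (fun p => by
    simp [tau, Prod.ext_iff, funext_iff, Fin.forall_fin_succ]) _ hM
  have hN' : ∀ p ∈ N.map fun p => (ty p.1, p.2), p.1 ∈ types ∧ Adm p.1 p.2 := fun p' hp' => by
    obtain ⟨p, hp, rfl⟩ := Multiset.mem_map.1 hp'
    obtain ⟨i, hi, rfl⟩ := Multiset.mem_map.1 (hN p hp)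
    exact ⟨hty i (Finset.mem_erase.1 hi).2 (Finset.mem_erase.1 hi).1,
      hX i (Finset.mem_erase.1 hi).2 (Finset.mem_erase.1 hi).1⟩
  have key : ∀ (R : Type) [CommRing R] (F : Ty → ℤ → R),
      ((N.map fun p => (ty p.1, p.2)).map fun p => p.1.w * F p.1 p.2).sum =
        ∑ i ∈ s, F (ty (r i)) (X i) - F ⟨-1, 0, 0, 0, 1, 1⟩ 1 := fun R _ F => by
    have := hs R (fun p => F (ty p.1) p.2) fun p => by rw [ty_tau]; rfl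
    simp only [ty_w, Multiset.map_map, Function.comp_def] at this ⊢
    rw [← this, ← Finset.add_sum_erase s _ h0, r0, X0]
    exact (add_sub_cancel_left _ _).symm
  have hq : ∀ i, ((ty (r i)).q : ℤ) = r i 1 * r i 1 + r i 2 * r i 2 + r i 3 * r i 3 + r i 4 * r i 4 :=
    fun i => by simp only [ty, mk]; rw [Int.toNat_of_nonneg (by positivity)]; ring
  have cast : ∀ (g : Ty → ℤ) (n : ℕ), (∀ t ∈ types, 0 ≤ g t) →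
      ((N.map fun p => (ty p.1, p.2)).map fun p => g p.1).sum = n →
      ((N.map fun p => (ty p.1, p.2)).map fun p => (g p.1).toNat).sum = n := fun g n hg h => by
    rw [← Nat.cast_inj (R := ℤ), ← h, Nat.cast_multiset_sum, Multiset.map_map]
    exact congrArg _ (Multiset.map_congr rfl fun p hp => Int.toNat_of_nonneg (hg _ (hN' p hp).1))
  obtain ⟨l, hl, hl'⟩ := check_sound 120 types _ [] (fun p hp => (hN' p hp).1) (by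
    rw [cast g1 4117 (fun t ht => (types_nonneg t ht).1), cast g2 2032084
      (fun t ht => (types_nonneg t ht).2.1), cast g3 15 (fun t ht => (types_nonneg t ht).2.2)]
    · exact check_types
    · refine (key ℤ fun t _ => t.a ^ 2).trans ?_
      simp [ty, mk, sq, hG, gram]
    · refine (key ℤ fun t _ => 100000 * t.q + 1000 * t.s ^ 2 + 50 * t.o + t.s * t.a).trans ?_
      simp only [hq]
      simp [ty, mk, sq, mul_add, add_mul, Finset.sum_add_distrib, ← Finset.mul_sum, hG, gram]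
    · refine (key ℤ fun t _ => 1000 * t.b ^ 2 + 30 * (t.b * t.s) + t.b * t.a).trans ?_
      simp [ty, mk, sq, mul_add, Finset.sum_add_distrib, ← Finset.mul_sum, hG, gram])
  rw [hl] at key hN'
  simp only [Multiset.map_coe, Multiset.sum_coe] at key
  have hR' := fun j => hR j
  simp only [Int.cast_mul, mul_assoc] at hR'
  refine not_good l hl' ⟨fun p hp => (hN' p hp).2, ?_, ?_, ?_, ?_, ?_, ?_⟩ <;>
    simp only [Int.cast_mul, mul_assoc, Int.cast_natCast]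
  · exact (key ℤ fun t x => t.b * x).trans (by simp [ty, mk, hL])
  · exact (key ℤ fun t x => t.s * x).trans (by simp [ty, mk, add_mul, Finset.sum_add_distrib, hL])
  · exact (key ℤ fun t x => t.a * x).trans (by simp [ty, mk, hL])
  · exact (key ℚ fun t x => t.a * ((t.v ^ 2 : ℤ) * (x : ℚ)⁻¹)).trans (by
      erw [hR' 5]; simp [Ty.v])
  · refine (key ℚ fun t x => (t.s - 4 * t.b : ℤ) * ((t.v ^ 2 : ℤ) * (x : ℚ)⁻¹)).trans ?_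
    have : ∀ i, (((ty (r i)).s - 4 * (ty (r i)).b : ℤ) : ℚ) = r i 1 + r i 2 + r i 3 + r i 4 - 4 * r i 0 :=
      fun i => by simp [ty, mk]
    simp only [this, add_mul, sub_mul, mul_assoc, Finset.sum_add_distrib, Finset.sum_sub_distrib,
      ← Finset.mul_sum, hR']
    simp [Ty.v]; ring
  · refine le_of_le_of_eq ?_ (key ℚ fun t x => t.b * ((t.v ^ 2 : ℤ) * (x : ℚ)⁻¹)).symm
    erw [hR' 0]; norm_num [Ty.v]; simpa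

/-- The generalized decomposition numbers `e i 0, …, e i 4` at the involution and `e i 5` at the
element of order four are incompatible with large degrees `X i`. -/
theorem no_rows {ι : Type*} [DecidableEq ι] (s : Finset ι) (e : ι → Fin 6 → ℤ) (X v : ι → ℤ) {i₀ : ι}
    (h0 : i₀ ∈ s) (e0 : e i₀ = ![1, 0, 0, 0, 0, 1]) (X0 : X i₀ = 1) (π : Equiv.Perm ι)
    (hπ : ∀ i, π i ∈ s ↔ i ∈ s) (hπ0 : π i₀ = i₀)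
    (hτ : ∀ i ∈ s, (e (π i), X (π i)) = tau (e i, X i))
    (hv : ∀ i, v i = e i 0 + e i 1 + e i 2 + e i 3 + e i 4) (h4 : ∀ i ∈ s, 4 ∣ v i - e i 5)
    (hG : ∀ j k, ∑ i ∈ s, e i j * e i k =
      if j = 5 ∨ k = 5 then (if j = k then 16 else 0) else if j = k then 16 else 12)
    (hL : ∀ j, ∑ i ∈ s, e i j * X i = 0) (hv0 : ∀ i ∈ s, v i ≠ 0)
    (hX : ∀ i ∈ s, i ≠ i₀ → ∃ x, x < X i ∧ 64 ∣ X i - x ∧ 64 ∣ x + 3 * v i + 60 * e i 5 ∧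
      0 ≤ x + 3 * v i + 60 * e i 5 ∧ 0 ≤ x + 3 * v i - 4 * e i 5 ∧ v i ≤ x) {W : ℚ}
    (hW : 0 ≤ W) (hR : ∀ j, ∑ i ∈ s, ((e i j * v i ^ 2 : ℤ) : ℚ) * (X i : ℚ)⁻¹ =
      if j = 5 then 0 else W) : False := by
  set ε : ι → ℤ := fun i => if 0 < v i then 1 else -1 with hε
  set r : ι → Fin 6 → ℤ := fun i j => if j = 5 then e i 5 else (v i - e i 5) / 4 - e i j with hr
  set c : Fin 6 → Fin 6 → ℤ := fun j k => if j = 5 then (if k = 5 then 4 else 0) else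
    if k = 5 then -1 else if j = k then -3 else 1 with hc
  have ε2 : ∀ i, ε i * ε i = 1 := fun i => by simp only [hε]; split_ifs <;> rfl
  have hrc : ∀ i ∈ s, ∀ j, 4 * r i j = ∑ k, c j k * e i k := fun i hi j => by
    have := h4 i hi
    have := hv i
    fin_cases j <;> simp [hr, hc, Fin.sum_univ_succ] <;> omega
  have hvr : ∀ i ∈ s, (ty fun j => ε i * r i j).v = ε i * v i := fun i hi => by
    have := h4 i hi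
    have := hv i
    simp only [ty, mk, Ty.v, hε, hr]
    simp only [Fin.reduceEq, if_false, if_true]
    split_ifs <;> omega
  have lin : ∀ (R : Type) [CommRing R] (f : ι → R) j,
      4 * ∑ i ∈ s, (r i j : R) * f i = ∑ k, c j k * ∑ i ∈ s, (e i k : R) * f i := fun R _ f j => by
    simp only [Finset.mul_sum]
    rw [Finset.sum_comm]
    refine Finset.sum_congr rfl fun i hi => ?_
    have := congrArg (Int.cast : ℤ → R) (hrc i hi j)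
    push_cast at this
    rw [← mul_assoc, this, Finset.sum_mul]
    exact Finset.sum_congr rfl fun _ _ => mul_assoc ..
  have v0 : v i₀ = 1 := by simp [hv, e0]
  refine no_rows' s (fun i j => ε i * r i j) (fun i => ε i * X i) h0 ?_ (by simp [hε, v0, X0]) π hπ hπ0
    (fun i hi => ?_) (fun j k => ?_) (fun j => ?_) (fun i hi => ?_) (fun i hi hne => ?_)
    (κ := W / 4) (by positivity) fun j => ?_
  · ext j; fin_cases j <;> simp [hε, hr, v0, e0]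
  · have h1 := congrArg Prod.fst (hτ i hi)
    have h2 : X (π i) = X i := congrArg Prod.snd (hτ i hi)
    simp only [tau] at h1
    have h3 : v (π i) = v i := by simp [hv, h1]; ring
    simp [tau, funext_iff, Fin.forall_fin_succ, hε, hr, h1, h2, h3]
  · have h1 : ∀ k', 4 * ∑ i ∈ s, e i k' * r i k = ∑ l, c k l * ∑ i ∈ s, e i l * e i k' := fun k' => by
      simpa [mul_comm] using lin ℤ (fun i => e i k') k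
    have h2 := congrArg (4 * ·) (lin ℤ (fun i => r i k) j)
    simp only [Int.cast_id, Finset.mul_sum (s := Finset.univ)] at h2
    simp only [mul_left_comm 4 (c j _), h1, hG] at h2
    have h3 : ∑ i ∈ s, ε i * r i j * (ε i * r i k) = ∑ i ∈ s, r i j * r i k :=
      Finset.sum_congr rfl fun i _ => by linear_combination r i j * r i k * ε2 i
    rw [h3]
    refine mul_left_cancel₀ (a := 4 * 4) (by norm_num) ?_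
    rw [mul_assoc, h2]
    clear h1 h2 h3
    revert j k; decide
  · have h2 := lin ℤ X j
    simp only [Int.cast_id, hL, mul_zero, Finset.sum_const_zero] at h2
    rw [← (mul_eq_zero.1 h2).resolve_left (by norm_num)]
    exact Finset.sum_congr rfl fun i _ => by linear_combination r i j * X i * ε2 i
  · have := hv0 i hi
    rw [hvr i hi]; simp only [hε]; split_ifs <;> omega
  · obtain ⟨x, h⟩ := hX i hi hne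
    have := h4 i hi
    have := hv i
    simp only [Adm, Out, md, ty, mk, hε, hr]
    simp only [Fin.reduceEq, if_false, if_true]
    split_ifs <;> omega
  · have h2 := lin ℚ (fun i => (v i ^ 2 : ℤ) * (X i : ℚ)⁻¹) j
    simp only [← mul_assoc, ← Int.cast_mul, hR] at h2
    have h3 : ∑ i ∈ s, ((ε i * r i j * (ty fun j => ε i * r i j).v ^ 2 : ℤ) : ℚ) *
        ((ε i * X i : ℤ) : ℚ)⁻¹ = ∑ i ∈ s, ((r i j * v i ^ 2 : ℤ) : ℚ) * (X i : ℚ)⁻¹ :=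
      Finset.sum_congr rfl fun i hi => by
        rw [hvr i hi]; simp only [hε]; split_ifs <;> simp
    rw [h3, eq_div_of_mul_eq (by norm_num) ((mul_comm _ _).trans h2)]
    fin_cases j <;> simp [hc, Fin.sum_univ_succ] <;> ring

end CL.Lyons
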