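import Mathlib
import Cfsg.Agent.SOLV.SectionAut
import Cfsg.Agent.SOLV.Frattini
import Cfsg.Agent.PLOC.PFrattini

/-! Automorphism groups of elementary abelian groups as matrix groups, and the faithful action
of `X / O_p(X)` on the Frattini quotient of `O_p(X)`. -/

set_option autoImplicit false

namespace CL.EAGL

open Subgroup Function
open scoped commutatorElement

theorem exists_hom_matrix {M : Type*} {p n : ℕ} [Fact p.Prime] [AddCommGroup M]
    [Module (ZMod p) M] [Finite M] (hM : Nat.card M ≤ p ^ n) :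
    ∃ f : Module.End (ZMod p) M →* Matrix (Fin n) (Fin n) (ZMod p), Injective f := by
  have hk : Module.finrank (ZMod p) M ≤ n := by
    rw [Module.natCard_eq_pow_finrank (K := ZMod p), Nat.card_zmod] at hM
    exact (Nat.pow_le_pow_iff_right (Fact.out : p.Prime).one_lt).1 hM
  have hW : Module.finrank (ZMod p) (M × (Fin (n - Module.finrank (ZMod p) M) → ZMod p)) = n := by
    rw [Module.finrank_prod, Module.finrank_fin_fun]; omega
  let b := Module.finBasisOfFinrankEq _ _ hW
  let F : Module.End (ZMod p) M →*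
      Module.End (ZMod p) (M × (Fin (n - Module.finrank (ZMod p) M) → ZMod p)) :=
    { toFun := fun σ => σ.prodMap LinearMap.id
      map_one' := LinearMap.ext fun _ => rfl
      map_mul' := fun _ _ => LinearMap.ext fun _ => rfl }
  refine ⟨(LinearMap.toMatrixAlgEquiv b).toMonoidHom.comp F,
    (LinearMap.toMatrixAlgEquiv b).injective.comp fun σ τ h => LinearMap.ext fun x => ?_⟩
  exact congrArg Prod.fst (LinearMap.congr_fun h (x, 0))

theorem exists_hom_gl_aux {V : Type*} [CommGroup V] [Finite V] {p n : ℕ} [Fact p.Prime]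
    [Module (ZMod p) (Additive V)] (hV : Nat.card V ≤ p ^ n) :
    ∃ f : MulAut V →* GL (Fin n) (ZMod p), Injective f := by
  obtain ⟨f, hf⟩ := exists_hom_matrix (M := Additive V) (p := p) (n := n) hV
  let F : MulAut V →* Module.End (ZMod p) (Additive V) :=
    { toFun := fun σ => (MonoidHom.toAdditive σ.toMonoidHom).toZModLinearMap p
      map_one' := LinearMap.ext fun _ => rfl
      map_mul' := fun σ τ => LinearMap.ext fun x => rfl }
  refine ⟨(f.comp F).toHomUnits, fun σ τ h => ?_⟩
  ext x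
  exact LinearMap.congr_fun (hf (congrArg Units.val h)) (Additive.ofMul x)

theorem exists_hom_gl {V : Type*} [Group V] [Finite V] {p n : ℕ} [Fact p.Prime]
    (hc : ∀ x y : V, x * y = y * x) (he : ∀ x : V, x ^ p = 1) (hV : Nat.card V ≤ p ^ n) :
    ∃ f : MulAut V →* GL (Fin n) (ZMod p), Injective f := by
  let i : CommGroup V := { (inferInstance : Group V) with mul_comm := hc }
  exact @exists_hom_gl_aux V i _ p n _ (AddCommGroup.zmodModule fun x =>
    congrArg Additive.ofMul (he x.toMul)) hV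

theorem exists_hom_quotient_pCore {X : Type*} [Group X] [Finite X] {p : ℕ} [Fact p.Prime]
    (hC : centralizer (Cfsg.pCore p X : Set X) ≤ Cfsg.pCore p X) :
    ∃ f : X ⧸ Cfsg.pCore p X →* MulAut (Cfsg.pCore p X ⧸ frattini (Cfsg.pCore p X)),
      Injective f ∧ ∀ (x : X) (y : Cfsg.pCore p X), f (x : X ⧸ _) (y : _ ⧸ _) =
        (MulAut.conjNormal x y : Cfsg.pCore p X) := by
  have hP := CL.isPGroup_pCore p X
  let g : MulAut (Cfsg.pCore p X) →* MulAut (Cfsg.pCore p X ⧸ frattini (Cfsg.pCore p X)) :=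
    { toFun := fun σ => QuotientGroup.congr _ _ σ (characteristic_iff_map_eq.1 inferInstance σ)
      map_one' := by ext ⟨x⟩; rfl
      map_mul' := fun _ _ => by ext ⟨x⟩; rfl }
  let h := g.comp (MulAut.conjNormal (H := Cfsg.pCore p X))
  have hh : ∀ (x : X) (y : Cfsg.pCore p X), h x (y : _ ⧸ _) =
      (MulAut.conjNormal x y : Cfsg.pCore p X) := fun _ _ => rfl
  have h1 : ∀ x ∈ Cfsg.pCore p X, h x = 1 := by
    intro x hx
    ext ⟨y⟩
    refine (hh x y).trans (QuotientGroup.eq.2 ?_)
    have := CL.PG.commutatorElement_mem_frattini hP ⟨x, hx⟩ y⁻¹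
    convert this using 1
    apply Subtype.ext
    simp [commutatorElement_def, mul_assoc]
  refine ⟨QuotientGroup.lift _ h h1, ?_, hh⟩
  rw [injective_iff_map_eq_one]
  intro x hx
  obtain ⟨x, rfl⟩ := QuotientGroup.mk_surjective x
  refine (QuotientGroup.eq_one_iff x).2 (CL.le_pCore_of_commutator_le_frattini hC
    (H := zpowers x) ?_ (mem_zpowers x))
  rw [commutator_le]
  rintro y hy _ ⟨k, rfl⟩
  have hx' : h x = 1 := hx
  have k1 : h (x ^ k) = 1 := by rw [map_zpow, hx', one_zpow]
  have k2 := hh (x ^ k) ⟨y⁻¹, inv_mem hy⟩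
  rw [k1, MulAut.one_apply, QuotientGroup.eq] at k2
  refine ⟨_, k2, ?_⟩
  show y⁻¹⁻¹ * (x ^ k * y⁻¹ * (x ^ k)⁻¹) = ⁅y, x ^ k⁆
  simp [commutatorElement_def, mul_assoc]

theorem exists_hom_quotient_pCore_gl {X : Type*} [Group X] [Finite X] {p n : ℕ} [Fact p.Prime]
    (hC : centralizer (Cfsg.pCore p X : Set X) ≤ Cfsg.pCore p X)
    (hn : (frattini (Cfsg.pCore p X)).index ≤ p ^ n) :
    ∃ f : X ⧸ Cfsg.pCore p X →* GL (Fin n) (ZMod p), Injective f := by
  have hP := CL.isPGroup_pCore p X
  obtain ⟨f, hf, -⟩ := exists_hom_quotient_pCore hC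
  obtain ⟨hc, he⟩ := (CL.PG.frattini_eq_bot_iff (hP.to_quotient _)).1
    (CL.frattini_quotient_frattini (Cfsg.pCore p X))
  obtain ⟨g, hg⟩ := exists_hom_gl hc.is_comm.comm he hn
  exact ⟨g.comp f, hg.comp hf⟩

end CL.EAGL
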