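import Mathlib
import Cfsg.Agent.S4249
import Cfsg.Agent.SOLV.OddOrderCor
import Cfsg.Agent.SOLV.MinNormal
import Cfsg.Agent.SOLV.Core
import Cfsg.Agent.INV.SylowTI
import Cfsg.Agent.INV.SmallTI
import Cfsg.Agent.INV.SmallPSL
import Cfsg.Agent.FGS.NilpBasic
import Cfsg.Agent.CHAR.D8Centralizer
import Cfsg.Agent.ODD.BG3Frob

/-! Groups in which every element of order divisible by `p` has order `p`. -/

set_option autoImplicit false

namespace CL.EltP

open Subgroup Cfsg

/-- every element of order divisible by `p` has order `p`. -/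
def EP (p : ℕ) (G : Type*) [Group G] : Prop := ∀ g : G, p ∣ orderOf g → orderOf g = p

variable {G : Type*} [Group G] {p : ℕ} [hp : Fact p.Prime]

omit hp in
theorem EP.subgroup (h : EP p G) (H : Subgroup G) : EP p H := fun g hg => by
  rw [← orderOf_coe] at hg ⊢; exact h _ hg

theorem EP.pow_eq_one (h : EP p G) {x g : G} (hx : orderOf x = p) (hc : Commute x g) :
    g ^ p = 1 := by
  by_cases hg : p ∣ orderOf g
  · rw [← h g hg, pow_orderOf_eq_one]
  have h1 := hc.orderOf_mul_eq_mul_orderOf_of_coprime (hx ▸ (hp.out.coprime_iff_not_dvd.2 hg))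
  rw [h _ (h1 ▸ hx ▸ Dvd.intro _ rfl), hx] at h1
  rw [orderOf_eq_one_iff.1 ((Nat.mul_eq_left hp.out.ne_zero).1 h1.symm), one_pow]

theorem EP.orderOf_eq (h : EP p G) {x : G} {k : ℕ} (hx : x ^ p ^ k = 1) (h1 : x ≠ 1) :
    orderOf x = p := by
  obtain ⟨j, -, hj⟩ := (Nat.dvd_prime_pow hp.out).1 (orderOf_dvd_of_pow_eq_one hx)
  refine h x (hj ▸ dvd_pow_self p ?_)
  rintro rfl
  exact h1 (orderOf_eq_one_iff.1 hj)

theorem EP.isPGroup_of_le (h : EP p G) {x : G} (hx : orderOf x = p) {C : Subgroup G}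
    (hC : ∀ g ∈ C, Commute x g) : IsPGroup p C := fun g =>
  ⟨1, Subtype.ext (by simpa using h.pow_eq_one hx (hC g g.2))⟩

variable [Finite G]

theorem EP.centralizer_le (h : EP p G) (hD : pCore p G ≠ ⊥) :
    centralizer (pCore p G : Set G) ≤ pCore p G := by
  obtain ⟨⟨d, hd⟩, hd1⟩ := ne_bot_iff_exists_ne_one.1 hD
  obtain ⟨k, hk⟩ := CL.isPGroup_pCore p G ⟨d, hd⟩
  exact CL.le_pCore (h.isPGroup_of_le
    (h.orderOf_eq (congrArg Subtype.val hk) fun e => hd1 (Subtype.ext e)) fun g hg => hg d hd)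

/-- with a nontrivial normal `p`-subgroup the group is `p`-closed. -/
theorem EP.mem_pCore (h : EP p G) (hD : pCore p G ≠ ⊥) {x : G} {k : ℕ} (hx : x ^ p ^ k = 1) :
    x ∈ pCore p G := by
  by_contra hxD
  have hxo : orderOf x = p := h.orderOf_eq hx fun e => hxD (e ▸ one_mem _)
  have hxp : x ^ p = 1 := hxo ▸ pow_orderOf_eq_one x
  let π := QuotientGroup.mk' (pCore p G)
  have hπ : ∀ g, π g = 1 ↔ g ∈ pCore p G := fun g => QuotientGroup.eq_one_iff g
  have hx1 : orderOf (π x) = p :=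
    orderOf_eq_prime (by rw [← map_pow, hxp, map_one]) (mt (hπ x).1 hxD)
  have hDp : ∀ d ∈ pCore p G, d ^ p = 1 := fun d hd => by
    by_cases h1 : d = 1
    · simp [h1]
    obtain ⟨k, hk⟩ := CL.isPGroup_pCore p G ⟨d, hd⟩
    rw [← h.orderOf_eq (congrArg Subtype.val hk) h1, pow_orderOf_eq_one]
  by_cases hp2 : p = 2
  · subst hp2
    refine hxD (h.centralizer_le hD fun d hd => ?_)
    have h1 : orderOf (d * x) = 2 := h _ (by
      rw [← hx1, ← one_mul (π x), ← (hπ d).2 hd, ← map_mul]; exact orderOf_map_dvd π _)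
    have h2 : d * x * (d * x) = 1 := by rw [← sq, ← h1, pow_orderOf_eq_one]
    have h3 : x * x = 1 := by rw [← sq, ← hxo, pow_orderOf_eq_one]
    have h4 : d * d = 1 := by rw [← sq, hDp d hd]
    rw [mul_eq_one_iff_eq_inv.1 h2, mul_inv_rev, ← mul_eq_one_iff_eq_inv.1 h3,
      ← mul_eq_one_iff_eq_inv.1 h4]
  obtain ⟨K, r, hKn, hK1, hr, hrp, hK⟩ : ∃ (K : Subgroup (G ⧸ pCore p G)) (r : ℕ), K.Normal ∧
      K ≠ ⊥ ∧ r.Prime ∧ r ≠ p ∧ IsPGroup r K := by
    rcases Nat.even_or_odd (Nat.card G) with he | ho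
    · obtain ⟨t, ht⟩ := exists_prime_orderOf_dvd_card' (G := G) 2 he.two_dvd
      have ht2 : ∀ g, g * t * g⁻¹ * (g * t * g⁻¹) = 1 := fun g => by
        rw [← sq, conj_pow, ← ht, pow_orderOf_eq_one]; simp
      have hinv : ∀ g, ∀ d ∈ pCore p G, g * t * g⁻¹ * d * (g * t * g⁻¹)⁻¹ = d⁻¹ := fun g d hd =>
        CL.Char.D8.inverts_of_fixedPointFree _ (ht2 g) (fun d hd hc => by
          by_contra h1
          have h2 := h.pow_eq_one (orderOf_eq_prime (hDp d hd) h1) (g := g * t * g⁻¹) hc.symm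
          have h3 := orderOf_dvd_of_pow_eq_one h2
          rw [show orderOf (g * t * g⁻¹) = 2 from (MulEquiv.orderOf_eq (MulAut.conj g) t).trans ht]
            at h3
          exact hp2 ((Nat.prime_dvd_prime_iff_eq Nat.prime_two hp.out).1 h3).symm) hd
      have hcen : π t ∈ center (G ⧸ pCore p G) := mem_center_iff.2 fun g => by
        obtain ⟨g, rfl⟩ := QuotientGroup.mk'_surjective (pCore p G) g
        have h1 : (g * t * g⁻¹)⁻¹ * t ∈ pCore p G := h.centralizer_le hD fun d hd => by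
          have h2 := hinv g d hd
          have h3 := hinv 1 d hd
          simp only [one_mul, inv_one, mul_one] at h3
          rw [← h3] at h2
          calc _ = (g * t * g⁻¹)⁻¹ * (g * t * g⁻¹ * d * (g * t * g⁻¹)⁻¹) * t := by group
            _ = _ := by rw [h2]; group
        have h2 := (hπ _).2 h1
        rw [map_mul, map_inv, inv_mul_eq_one, map_mul, map_mul, map_inv] at h2
        exact mul_inv_eq_iff_eq_mul.1 h2
      have ho : orderOf (π t) = 2 := orderOf_eq_prime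
        (by rw [← map_pow, ← ht, pow_orderOf_eq_one, map_one]) fun e => hp2 (by
          have h3 := orderOf_dvd_of_pow_eq_one (hDp t ((hπ t).1 e))
          rw [ht] at h3
          exact ((Nat.prime_dvd_prime_iff_eq Nat.prime_two hp.out).1 h3).symm)
      refine ⟨zpowers (π t), 2, ⟨fun y hy g => ?_⟩, fun e => ?_, Nat.prime_two, Ne.symm hp2,
        IsPGroup.of_card (n := 1) (by rw [Nat.card_zpowers, ho, pow_one])⟩
      · rwa [mem_center_iff.1 (zpowers_le.2 hcen hy), mul_inv_cancel_right]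
      · rw [zpowers_eq_bot.1 e, orderOf_one] at ho; omega
    · have := CL.isSolvable_of_odd G ho
      have : Nontrivial (G ⧸ pCore p G) := ⟨π x, 1, mt (hπ x).1 hxD⟩
      obtain ⟨K, r, hK, hr, -, hKr⟩ := CL.exists_isMinNormal_isElementaryAbelian (G ⧸ pCore p G)
      refine ⟨K, r, hK.normal, hK.ne_bot, hr, ?_, hKr⟩
      rintro rfl
      exact hK.ne_bot (eq_bot_iff.2 (CL.pCore_quotient_pCore r G ▸ @CL.le_pCore _ _ _ _ hK.normal hKr))
  have hKp : ∀ y ∈ K, y ^ p = 1 → y = 1 := fun y hy h1 => by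
    obtain ⟨j, hj⟩ := hK ⟨y, hy⟩
    have h2 : y ^ r ^ j = 1 := congrArg Subtype.val hj
    have := pow_gcd_eq_one.2 ⟨h1, h2⟩
    rwa [((Nat.coprime_primes hp.out hr).2 hrp.symm).pow_right j, pow_one] at this
  obtain ⟨⟨a, ha⟩, ha1⟩ := ne_bot_iff_exists_ne_one.1 hK1
  obtain ⟨a, rfl⟩ := QuotientGroup.mk'_surjective (pCore p G) a
  have ha2 : ∀ d ∈ pCore p G, (d * a) ^ p ≠ 1 := fun d hd e => ha1 (Subtype.ext (hKp _ ha (by
    have := congrArg π e
    rwa [map_pow, map_mul, (hπ d).2 hd, one_mul, map_one] at this)))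
  let Y := K.comap π ⊔ zpowers x
  have hDY : ∀ d ∈ pCore p G, d ∈ Y := fun d hd =>
    mem_sup_left (by rw [mem_comap, (hπ d).2 hd]; exact one_mem _)
  have haY : a ∈ Y := mem_sup_left ha
  have ha3 : a ^ p ≠ 1 := by simpa using ha2 1 (one_mem _)
  have hap : ¬ p ∣ orderOf a := fun e => ha3 (by rw [← h a e, pow_orderOf_eq_one])
  obtain ⟨hn, -⟩ := Cfsg.Agent.S4249.result (G := Y) p hp.out (fun hY => by
    obtain ⟨j, hj⟩ := hY ⟨a, haY⟩
    have := h.orderOf_eq (congrArg Subtype.val hj) (fun e => ha3 (by rw [show a = 1 from e]; simp))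
    exact hap (this ▸ dvd_rfl)) (fun e => by
    have h1 : closure {g : Y | g ^ p ≠ 1} ≤ (K.comap π).subgroupOf Y := by
      refine (closure_le _).2 fun g hg => ?_
      by_contra hgK
      obtain ⟨b, hb, _, ⟨i, rfl⟩, e⟩ := mem_sup_of_normal_left.1 g.2
      let ρ := QuotientGroup.mk' (K.comap π)
      have h2 : ρ g = ρ x ^ i := by
        rw [← e, map_mul, map_zpow, show ρ b = 1 from (QuotientGroup.eq_one_iff b).2 hb, one_mul]
      have h3 : orderOf (ρ g) = p := orderOf_eq_prime (by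
        rw [h2, ← zpow_natCast, ← zpow_mul, mul_comm, zpow_mul, zpow_natCast, ← map_pow, hxp,
          map_one, one_zpow]) fun e => hgK ((QuotientGroup.eq_one_iff (g : G)).1 e)
      exact hg (Subtype.ext (by
        rw [coe_pow, ← h g (h3 ▸ orderOf_map_dvd ρ _), pow_orderOf_eq_one]; rfl))
    have h2 : π x ∈ K := h1 (e ▸ mem_top (⟨x, mem_sup_right (mem_zpowers x)⟩ : Y))
    exact hxD ((hπ x).1 (hKp _ h2 (by rw [← map_pow, hxp, map_one]))))
  obtain ⟨⟨d, hd⟩, hd1⟩ := ne_bot_iff_exists_ne_one.1 hD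
  have hdo : orderOf d = p := orderOf_eq_prime (hDp d hd) fun e => hd1 (Subtype.ext e)
  have h1 : (⟨a, haY⟩ : Y) ∈ closure {g : Y | g ^ p ≠ 1} :=
    subset_closure fun e => ha3 (congrArg Subtype.val e)
  have h2 : (⟨d, hDY d hd⟩ : Y) * ⟨a, haY⟩ ∈ closure {g : Y | g ^ p ≠ 1} :=
    subset_closure fun e => ha2 d hd (congrArg Subtype.val e)
  have h3 := CL.FGS.commute_of_mem_nilpotent_of_coprime _ hn
    (show (⟨d, hDY d hd⟩ : Y) ∈ _ by
      have := mul_mem h2 (inv_mem h1)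
      rwa [mul_inv_cancel_right] at this) h1
    (by rw [orderOf_mk, orderOf_mk, hdo]; exact hp.out.coprime_iff_not_dvd.2 hap)
  exact ha3 (h.pow_eq_one hdo (congrArg Subtype.val h3.eq))

/-- the Sylow `p`-subgroups are TI. -/
theorem EP.sylow_TI (h : EP p G) (P R : Sylow p G) (hPR : R ≠ P) : (P : Subgroup G) ⊓ R = ⊥ :=
  CL.Inv.sylow_TI_of_locals (fun W hW hWp => ⟨pCore p _, CL.isPGroup_pCore p _, fun x ⟨k, hk⟩ =>
    (h.subgroup _).mem_pCore (k := k) (fun e => hW (by
      have h1 : W.subgroupOf (normalizer (W : Set G)) ≤ ⊥ :=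
        e ▸ CL.le_pCore (hWp.comap_subtype)
      exact eq_bot_iff.2 fun y hy => congrArg Subtype.val
        (mem_bot.1 (h1 (show (⟨y, le_normalizer hy⟩ : normalizer (W : Set G)) ∈ _ from hy)))))
      (by rw [← hk, pow_orderOf_eq_one])⟩) P R hPR.symm

theorem EP.mem_sylow (h : EP p G) (P : Sylow p G) (x : G) (hx : x ∈ (P : Subgroup G))
    (h1 : x ≠ 1) (g : G) (hg : g * x = x * g) : g ∈ (P : Subgroup G) := by
  obtain ⟨k, hk⟩ := P.isPGroup' ⟨x, hx⟩
  obtain ⟨R, hR⟩ := (h.isPGroup_of_le (h.orderOf_eq (congrArg Subtype.val hk) h1)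
    (C := centralizer {x}) fun g hg => (mem_centralizer_singleton_iff.1 hg).symm).exists_le_sylow
  obtain rfl : R = P := by
    by_contra hne
    exact h1 (mem_bot.1 (h.sylow_TI P R hne ▸ ⟨hx, hR (mem_centralizer_singleton_iff.2 rfl)⟩))
  exact hR (mem_centralizer_singleton_iff.2 hg)

theorem EP.exists_card (h : EP p G) (P : Sylow p G) :
    ∃ m, m ∣ Nat.card P - 1 ∧ Nat.card G = Nat.card (Sylow p G) * (Nat.card P * m) := by
  let N := normalizer ((P : Subgroup G) : Set G)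
  let Q := P.subtype (N := N) le_normalizer
  have : (Q : Subgroup N).Normal := normal_in_normalizer
  obtain ⟨H, hH⟩ := exists_right_complement'_of_coprime Q.card_coprime_index
  have hc : Nat.card Q = Nat.card P := Nat.card_congr (subgroupOfEquivOfLe le_normalizer).toEquiv
  refine ⟨Nat.card H, ?_, ?_⟩
  · rw [← card_map_of_injective (K := H) N.subtype_injective]
    refine CL.BG.regular_norm_dvd_pred (map_subtype_le H) ?_
    rintro _ ⟨x, hx, rfl⟩ h1
    refine eq_bot_iff.2 fun y hy => ?_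
    by_contra h2
    have h3 := h.mem_sylow P y hy.1 h2 x (mem_centralizer_singleton_iff.1 hy.2).symm
    exact h1 (congrArg Subtype.val (mem_bot.1 (hH.disjoint.le_bot ⟨h3, hx⟩)))
  · rw [← hc, hH.card_mul_card, P.card_eq_index_normalizer]
    exact N.index_mul_card.symm

theorem EP.card_sylow (h : EP p G) (P : Sylow p G) {q d : ℕ} (hP : Nat.card P = q) (hq : 1 < q)
    (hd : 0 < d) (hd2 : d ≤ 2) (hG : d * Nat.card G = q * (q ^ 2 - 1)) :
    Nat.card (Sylow p G) = q + 1 := by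
  obtain ⟨m, h1, h2⟩ := h.exists_card P
  have h3 := CL.Small.card_sylow_modEq_of_TI P (h.sylow_TI P)
  rw [hP] at h1 h2 h3
  obtain ⟨k, hk⟩ := (Nat.modEq_iff_dvd' Nat.card_pos).1 h3.symm
  have h4 : 0 < Nat.card (Sylow p G) := Nat.card_pos
  obtain ⟨r, rfl⟩ : ∃ r, q = r + 1 := ⟨q - 1, by omega⟩
  have h5 : m ≤ r := Nat.le_of_dvd (by omega) h1
  have h6 : Nat.card (Sylow p G) = (r + 1) * k + 1 := by omega
  rw [h2, h6, show (r + 1) ^ 2 - 1 = r * (r + 2) from Nat.sub_eq_of_eq_add (by ring)] at hG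
  have h7 : ((r + 1) * k + 1) * (d * m) = r * (r + 2) :=
    Nat.eq_of_mul_eq_mul_left (show 0 < r + 1 by omega) (by linear_combination hG)
  have h8 : r + 1 ∣ d * m + 1 := by
    have : d * m + 1 + (r + 1) * (k * (d * m)) = (r + 1) * (r + 1) := by linear_combination h7
    exact (Nat.dvd_add_left (Dvd.intro _ rfl)).1 (this ▸ Dvd.intro _ rfl)
  obtain ⟨j, hj⟩ := h8
  have h9 : d * m ≤ 2 * r := Nat.mul_le_mul hd2 h5
  obtain rfl : j = 1 := by
    rcases j with _ | _ | j
    · omega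
    · rfl
    · nlinarith
  have h10 : d * m = r := by omega
  rw [h10, mul_comm r] at h7
  rw [h6, Nat.eq_of_mul_eq_mul_right (by omega) h7]

end CL.EltP
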