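import Cfsg.Agent.INV.Nag5
import Cfsg.Agent.INV.Nag8

/-! Simple groups with a Sylow subgroup of prime order `p` and fewer than `p ^ 2` Sylow
`p`-subgroups (Brauer--Reynolds, Nagai, Herzog). -/

set_option autoImplicit false
open Cfsg Subgroup

namespace CL.D1

theorem nag_self {G : Type*} [Group G] [Finite G] [IsSimpleGroup G] (hG : ¬ IsMulCommutative G)
    {p : ℕ} [hp : Fact p.Prime] (P : Sylow p G) (hP : Nat.card P = p)
    (hn : Nat.card (Sylow p G) < p ^ 2) :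
    Nat.card (centralizer ((P : Subgroup G) : Set G)) = p := by
  have hperf := CL.Small.commutator_eq_top hG
  have hodd := odd_of_card_sylow hG P hP
  obtain ⟨e, w, h1, h2, h3, h4, h5, h6⟩ := CL.Small.prime_sylow_data hG P hP
  obtain ⟨x, hx, hPx⟩ := exists_gen P hP P
  by_contra hw
  have hw : w ≠ 1 := by rintro rfl; exact hw (by rw [h3, mul_one])
  obtain ⟨D⟩ := exists_data hperf hodd P hP h5
  have hv := Nat.mod_add_div' (Nat.card (Sylow p G)) p
  rw [CL.Small.card_sylow_mod] at hv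
  have h7 := CL.Small.one_lt_card_sylow hG (hP ▸ card_subgroup_dvd_card (P : Subgroup G))
  generalize Nat.card (Sylow p G) / p = r at hv
  have hi := index_centralizer_eq P hP h3 (hv ▸ h6) hx
  have hr : r < p := lt_of_mul_lt_mul_right (a := p) (by rw [← sq]; omega) (Nat.zero_le _)
  have hdeg := D.degrees' hperf hx hi hr (by rintro rfl; omega)
  have hd := fun χ => D.two_mul_lt_of_ne (χ := χ) hG P hP h3 hw
  by_cases hU : ∃ u m, U p r u m
  · obtain ⟨u, m, hU⟩ := hU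
    obtain ⟨hu, β, η, hβ, hη, hβ0, hη0, he⟩ := (hdeg.typ hU).both hx hi hd
    obtain ⟨ψ, hψ⟩ := Finset.card_ne_zero.1 (hβ ▸ hβ0)
    obtain ⟨ψ', hψ'⟩ := Finset.card_ne_zero.1 (hη ▸ hη0)
    obtain ⟨a1, a2, a3⟩ := D.mem_Xs.1 hψ
    obtain ⟨b1, b2, b3⟩ := D.mem_Xs.1 hψ'
    have hS := star hU P hP (a2 ▸ D.mem_X a1) a3 (b2 ▸ D.mem_X b1) b3
    refine semireg hG P hP hS (TI_of_star hG P hP hS hn) h3 hw hv.symm
      fun hwr v q k hq hqp hqr hv hvP => ?_
    obtain ⟨-, hm, hpm, hr'⟩ := hU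
    have h8 := card_cent_gt D hpm hx (hvP x (hPx ▸ mem_zpowers x)) hq hqp hv
      (fun h => hq.not_dvd_one ((Nat.dvd_add_right (h.mul_right _)).1 (hr' ▸ hqr)))
      (fun h => hq.not_dvd_one ((Nat.dvd_add_right (h.mul_left _)).1 (hr' ▸ hqr)))
    rw [hβ, hη] at h8
    have h9 := Nat.le_of_dvd (by omega) hwr
    have h10 : 10 ≤ p := by nlinarith
    obtain ⟨s, hs⟩ : ∃ s, β + η = s + 2 := ⟨β + η - 2, by omega⟩
    obtain ⟨l, rfl⟩ : ∃ l, p = l + 1 := ⟨p - 1, by omega⟩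
    rw [hs] at he h8
    rw [h4]
    simp only [add_tsub_cancel_right] at h8
    have h11 : (l + 1) * w * (2 * e) ≤ (l + 1) * l * (3 * (s + 2) + 1) := by gcongr; omega
    have h12 : (l + 1) * (3 * (s + 2) + 1) < 4 * (s + 2) * l := by nlinarith
    nlinarith [Nat.mul_lt_mul_of_pos_left h12 (show 0 < l by omega)]
  · obtain ⟨-, d2, d3, -⟩ := hdeg.deg hU
    obtain ⟨θ, hθ⟩ := D.Y_nonempty
    have h7 := D.deg_eqn hθ
    have h8 := Nat.le_of_dvd (by have := hp.out.two_le; omega) h2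
    have h9 : D.ε = -1 := D.ε_sign.resolve_left fun h => by
      have := hd θ (Or.inr hθ)
      rw [d3 θ hθ h] at this
      omega
    have h10 : 0 ≤ ∑ χ ∈ D.X, D.δ χ * charDegree χ.1 := Finset.sum_nonneg fun χ hχ => by
      rw [(D.δ_sign χ hχ).resolve_right fun h => by
        have := hd χ (Or.inl hχ)
        rw [d2 χ hχ h] at this
        omega]
      positivity
    rw [h9] at h7
    omega

theorem nagai {G : Type*} [Group G] [Finite G] [IsSimpleGroup G] (hG : ¬ IsMulCommutative G)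
    {p : ℕ} [Fact p.Prime] (P : Sylow p G) (hP : Nat.card P = p)
    (hn : Nat.card (Sylow p G) < p ^ 2) :
    (3 < p ∧ ∃ (F : Type) (_ : Field F) (_ : Fintype F), Fintype.card F = p ∧
        Nonempty (G ≃* Matrix.ProjectiveSpecialLinearGroup (Fin 2) F)) ∨
      (p = 13 ∧ Nat.card G = 5616) ∨
      (3 < p ∧ (∃ k : ℕ, p = 2 ^ k + 1) ∧ ∃ (F : Type) (_ : Field F) (_ : Fintype F),
        Fintype.card F = p - 1 ∧
          Nonempty (G ≃* Matrix.ProjectiveSpecialLinearGroup (Fin 2) F)) ∨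
      (3 < p ∧ (∃ k : ℕ, p + 1 = 2 ^ k) ∧ ∃ (F : Type) (_ : Field F) (_ : Fintype F),
        Fintype.card F = p + 1 ∧
          Nonempty (G ≃* Matrix.ProjectiveSpecialLinearGroup (Fin 2) F)) := by
  have hperf := CL.Small.commutator_eq_top hG
  obtain ⟨x, hx, -⟩ := exists_gen P hP P
  obtain ⟨Q, r, g, h⟩ := exists_SC hx (centralizer_eq_zpowers P hP (nag_self hG P hP hn) hx)
  obtain ⟨D⟩ := exists_data hperf (odd_of_card_sylow hG P hP) Q h.card_P rfl
  have hdeg := D.degrees' hperf hx (h.index_cent hx) (lt_of_mul_lt_mul_right (a := p)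
    (by rw [← sq]; have := h.hv; omega) (Nat.zero_le _)) (h.n_ne_zero hperf (D.two_le_e hperf))
  by_cases hU : ∃ u m, U p r u m
  · obtain ⟨u, m, hU⟩ := hU
    exact Or.inr ((h.nag_core hG (hdeg.typ hU)).imp_right Or.inr)
  · rcases h.brauer_core hperf D (hdeg.deg hU) with ⟨F, _, _, h1, h2, h3⟩ |
      ⟨m, F, _, _, h1, h2, h3, h4⟩
    · exact Or.inl ⟨h2, F, _, _, h1, h3⟩
    · exact Or.inr (Or.inr (Or.inl ⟨h3, ⟨m, h2⟩, F, _, _, by omega, h4⟩))

end CL.D1
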