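import Cfsg.Agent.INV.SmallMisc
import Cfsg.Agent.INV.SmallInter

/-! There is no simple group of order 5400. -/

set_option autoImplicit false
open Subgroup MulAction

namespace CL.Small

variable {G : Type*} [Group G] [Finite G]

theorem exists_index_two_of_mod_four (h : Nat.card G % 4 = 2) : ∃ K : Subgroup G, K.index = 2 := by
  obtain ⟨T⟩ : Nonempty (Sylow 2 G) := inferInstance
  have hT := card_sylow_eq_of_factor T (a := 1) (m := Nat.card G / 2) (by omega) (by omega)
  have := isCyclic_of_prime_card (p := 2) (α := T) (by simpa using hT)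
  have h2 : (Nat.card G).minFac = 2 := (Nat.minFac_eq_two_iff _).2 (by omega)
  exact ⟨_, ((IsCyclic.isComplement' h2 this).symm.index_eq_card).trans (by simpa using hT)⟩

omit [Finite G] in
theorem no_5400 [IsSimpleGroup G] : Nat.card G ≠ 5400 := by
  classical
  intro h
  have : Finite G := Nat.finite_of_card_ne_zero (by omega)
  have hG := not_comm_of_not_prime (G := G) (by rw [h]; norm_num)
  have := Fact.mk (show Nat.Prime 5 by norm_num)
  have hPc : ∀ P : Sylow 5 G, Nat.card P = 5 ^ 2 := fun P =>
    card_sylow_eq_of_factor P (m := 216) (by rw [h]; norm_num) (by norm_num)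
  have hab : ∀ P : Sylow 5 G, IsMulCommutative P := fun P =>
    IsPGroup.isMulCommutative_of_card_eq_prime_sq (hPc P)
  have hidx : ∀ K : Subgroup G, K ≠ ⊤ → 10 ≤ K.index := fun K hK => by
    by_contra h1
    have := (two_mul_card_dvd_factorial hG K hK).trans
      (Nat.factorial_dvd_factorial (show K.index ≤ 9 by omega))
    rw [h] at this
    norm_num [Nat.factorial] at this
  obtain ⟨P⟩ : Nonempty (Sylow 5 G) := inferInstance
  have hNP := card_sylow_mul_card_normalizer P
  have hn : Nat.card (Sylow 5 G) = 36 := by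
    have h1 := card_sylow_dvd_of_factor (G := G) (p := 5) (a := 2) (m := 216)
      (by rw [h]; norm_num) (by norm_num)
    have h2 := card_sylow_mod (G := G) (p := 5)
    have h3 := hidx _ (sylow_normalizer_ne_top hG P (by rw [h]; norm_num))
    rw [← card_sylow_eq_index] at h3
    have h4 : ∀ n ∈ Nat.divisors 216, n % 5 = 1 → 10 ≤ n → n = 36 ∨ n = 216 := by decide +kernel
    refine (h4 _ (Nat.mem_divisors.2 ⟨h1, by norm_num⟩) h2 h3).resolve_right fun h5 => ?_
    refine not_normalizer_le_centralizer hG P (by rw [h]; norm_num) ?_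
    rw [← eq_of_le_of_card_ge (le_normalizer (H := (P : Subgroup G)))
      (by rw [hPc]; rw [h5, h] at hNP; omega)]
    exact le_centralizer _
  have := hab P
  obtain ⟨R, hPR, x, hx1, hxP, hxR, hP, hR⟩ := exists_centralizer_two_sylow P (hPc P)
    (by rw [hn]; decide)
  set H := centralizer ({x} : Set G) with hH
  have hx : orderOf x = 5 := by
    have h1 := card_dvd_of_le (inf_lt_left_of_ne hPR).le
    have h2 : Nat.card ↥((P : Subgroup G) ⊓ R) < Nat.card P := by
      by_contra h2
      exact (inf_lt_left_of_ne hPR).ne (eq_of_le_of_card_ge inf_le_left (by omega))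
    have h3 := orderOf_dvd_card_of_mem (H := (P : Subgroup G) ⊓ R) ⟨hxP, hxR⟩
    have h4 := h3.trans h1
    have h5 := Nat.le_of_dvd Nat.card_pos h3
    rw [hPc] at h4 h2
    obtain ⟨i, hi, h6⟩ := (Nat.dvd_prime_pow (by norm_num)).1 h4
    interval_cases i
    · exact absurd (by simpa using h6) hx1
    · simpa using h6
    · omega
  obtain ⟨s, t, h1, h2, h3, h4, h5, h6⟩ := card_of_two_sylow_le hPR hP hR
  rw [index_sylow_eq_of_factor P (a := 2) (m := 216) (by rw [h]; norm_num) (by norm_num)] at h5
  rw [hPc] at h1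
  have hHt : H ≠ ⊤ := centralizer_ne_top hG hx1
  have h7 := hidx H hHt
  have h8 : t = 6 ∧ (s = 6 ∨ s = 12 ∨ s = 18) := by
    have : s ≤ 21 := by nlinarith
    have h9 : ∀ s ∈ Nat.divisors 216, s ≤ 21 → ∀ t ∈ Nat.divisors s, 1 < t → t % 5 = 1 →
      t = 6 ∧ (s = 6 ∨ s = 12 ∨ s = 18) := by decide +kernel
    exact h9 s (Nat.mem_divisors.2 ⟨Dvd.intro _ h5, by norm_num⟩) this t
      (Nat.mem_divisors.2 ⟨h2, by rintro rfl; omega⟩) h3 h4
  obtain ⟨rfl, h8⟩ := h8
  have hs : s = 12 := by
    by_contra hs
    obtain ⟨K, hK⟩ := exists_index_two_of_mod_four (G := H) (by omega)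
    have := K.normal_of_index_eq_two hK
    have h9 : ∀ S : Sylow 5 G, (S : Subgroup G) ≤ H → (S : Subgroup G) ≤ K.map H.subtype := by
      intro S hS y hy
      exact ⟨⟨y, hS hy⟩, le_of_normal_of_not_dvd_index (P := (S : Subgroup G).subgroupOf H)
        (S.2.comap_subtype) (by rw [hK]; norm_num) hy, rfl⟩
    obtain ⟨s', t', h1', h2', h3', h4', -⟩ := card_of_two_sylow_le hPR (h9 P hP) (h9 R hR)
    rw [card_map_of_injective H.subtype_injective, hPc] at h1'
    have h10 := K.card_mul_index
    have h11 : s' = 3 ∨ s' = 9 := by rw [hK, h1, h1'] at h10; omega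
    have := Nat.le_of_dvd (by omega) h2'
    rcases h11 with rfl | rfl <;> interval_cases t' <;> omega
  subst hs
  have hHi : H.index = 18 := by omega
  have hmax : ∀ K : Subgroup G, H ≤ K → K ≠ ⊤ → K = H := fun K hK hK' => by
    have h9 := hidx K hK'
    have h10 := index_dvd_of_le hK
    rw [hHi] at h10
    have h11 : K.index = 18 := by
      have := Nat.le_of_dvd (by norm_num) h10
      interval_cases K.index <;> omega
    have h12 := K.card_mul_index
    exact (eq_of_le_of_card_ge hK (by rw [h11, h] at h12; omega)).symm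
  -- conjugates of `x` in `⟨x⟩`
  have ha : ∀ y, IsConj x y → y ∈ zpowers x → y = x := by
    intro y hy hy'
    obtain ⟨g, rfl⟩ := isConj_iff.1 hy
    have h9 : normalizer ((zpowers x : Subgroup G) : Set G) = H := by
      refine hmax _ (by rw [hH, ← centralizer_zpowers_eq]; exact centralizer_le_normalizer' _)
        (normalizer_ne_top (by simpa using hx1) fun h' => ?_)
      have := Nat.card_zpowers x
      rw [h', card_top, h, hx] at this
      omega
    have h10 : g ∈ H := by
      rw [← h9]
      refine mem_normalizer_fintype ?_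
      rintro _ ⟨k, rfl⟩
      simpa [← conj_zpow] using zpow_mem hy' k
    rw [← mem_centralizer_singleton_iff'.1 h10]
    simp
  have := Fintype.ofFinite (G ⧸ H)
  have hst : ∀ a g : G, g • (a : G ⧸ H) = a ↔ Commute (a * x * a⁻¹) g := by
    intro a g
    rw [Quotient.smul_mk, QuotientGroup.eq, mem_centralizer_singleton_iff', smul_eq_mul]
    constructor
    · intro h'
      refine Commute.inv_right_iff.1 ?_
      calc _ = a * (x * ((g * a)⁻¹ * a)) * a⁻¹ := by group
        _ = _ := by rw [h']; group
    · intro h'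
      calc _ = a⁻¹ * ((a * x * a⁻¹) * g⁻¹) * a := by group
        _ = _ := by rw [h'.inv_right.eq]; group
  have hfix : ∀ g ∈ H, ∀ ω : G ⧸ H, g • ω ∈ fixedBy (G ⧸ H) x ↔ ω ∈ fixedBy (G ⧸ H) x := by
    intro g hg ω
    rw [mem_fixedBy, mem_fixedBy, smul_smul, mem_centralizer_singleton_iff'.1 hg, mul_smul,
      smul_left_cancel_iff]
  have hΩ : Fintype.card (G ⧸ H) = 18 := by rw [← Nat.card_eq_fintype_card, ← hHi]; rfl
  have hf5 : 18 ≡ Fintype.card (fixedBy (G ⧸ H) x) [MOD 5] := by
    rw [← hΩ]
    exact Equiv.Perm.card_fixedPoints_modEq (f := toEndHom x) (n := 1)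
      (by rw [← map_pow, pow_one, ← hx, pow_orderOf_eq_one, map_one])
  have := Fact.mk Nat.prime_three
  obtain ⟨z, hzH, hz⟩ := exists_mem_orderOf_eq_prime H 3 (by rw [h1]; norm_num)
  have hf3 : Fintype.card (fixedBy (G ⧸ H) x) ≡ 1 [MOD 3] := by
    let f : Function.End (fixedBy (G ⧸ H) x) := fun ω => ⟨z • ω.1, (hfix z hzH ω).2 ω.2⟩
    refine (Equiv.Perm.card_fixedPoints_modEq (f := f) (n := 1) ?_).trans ?_
    · funext ω
      apply Subtype.ext
      change z • z • z • ω.1 = ω.1
      rw [smul_smul, smul_smul, show z * z * z = z ^ orderOf z by rw [hz, pow_three'],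
        pow_orderOf_eq_one, one_smul]
    · rw [Fintype.card_eq_one_iff.2 ⟨⟨⟨(1 : G), (hst 1 x).2 (by simp)⟩, Subtype.ext
        ((hst 1 z).2 (by simpa [Commute, SemiconjBy] using mem_centralizer_singleton_iff'.1 hzH))⟩, ?_⟩]
      rintro ⟨⟨ω, hω⟩, hω'⟩
      obtain ⟨a, rfl⟩ := QuotientGroup.mk_surjective ω
      have h9 := (hst a x).1 hω
      have h10 := (hst a z).1 (congrArg Subtype.val hω')
      refine Subtype.ext (Subtype.ext ?_)
      have h11 : IsConj x (a * x * a⁻¹) := isConj_iff.2 ⟨a, rfl⟩
      by_cases h12 : a * x * a⁻¹ ∈ zpowers x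
      · refine QuotientGroup.eq.2 ?_
        rw [mul_one, inv_mem_iff, mem_centralizer_singleton_iff']
        exact (mul_inv_eq_iff_eq_mul.1 (ha _ h11 h12)).symm
      exfalso
      set y := a * x * a⁻¹
      have hy : orderOf y = 5 := (orderOf_eq_of_isConj h11).trans hx
      let x' : H := ⟨x, mem_centralizer_singleton_iff'.2 rfl⟩
      let y' : H := ⟨y, mem_centralizer_singleton_iff'.2 h9.symm⟩
      obtain ⟨S, hS⟩ := exists_sylow_mem (p := 5) (x := y') (k := 1) (by
        rw [← orderOf_coe, hy, pow_one])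
      have hSc := card_sylow_eq_of_factor S (a := 2) (m := 12) (by rw [h1]) (by norm_num)
      have hxS : x' ∈ (S : Subgroup H) := mem_sylow_of_mem_normalizer S (k := 1) (by
        rw [← orderOf_coe, hx, pow_one]) (centralizer_le_normalizer' _ fun g _ =>
          Subtype.ext (mem_centralizer_singleton_iff'.1 g.2).symm)
      have h13 : (S : Subgroup H) ⊓ centralizer {(⟨z, hzH⟩ : H)} = S := by
        refine eq_of_le_of_card_ge inf_le_left ?_
        have h14 : zpowers x' < (S : Subgroup H) ⊓ centralizer {(⟨z, hzH⟩ : H)} := by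
          refine lt_of_le_of_ne (zpowers_le.2 ⟨hxS, mem_centralizer_singleton_iff'.2
            (Subtype.ext (mem_centralizer_singleton_iff'.1 hzH).symm)⟩) fun h' => h12 ?_
          obtain ⟨k, hk⟩ : y' ∈ zpowers x' := h' ▸ ⟨hS, mem_centralizer_singleton_iff'.2
            (Subtype.ext h10.symm)⟩
          exact ⟨k, congrArg Subtype.val hk⟩
        have h15 := card_dvd_of_le h14.le
        have h16 := card_dvd_of_le (inf_le_left : (S : Subgroup H) ⊓
          centralizer {(⟨z, hzH⟩ : H)} ≤ S)
        have h17 : Nat.card ↥((S : Subgroup H) ⊓ centralizer {(⟨z, hzH⟩ : H)}) ≠ 5 := fun h' =>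
          h14.ne (eq_of_le_of_card_ge h14.le (by rw [h', Nat.card_zpowers, ← orderOf_coe, hx]))
        rw [Nat.card_zpowers, ← orderOf_coe, hx] at h15
        rw [hSc] at h16 ⊢
        have := Nat.le_of_dvd (by norm_num) h16
        interval_cases Nat.card ↥((S : Subgroup H) ⊓ centralizer {(⟨z, hzH⟩ : H)}) <;> omega
      have h14 := orderOf_dvd_card_of_mem (centralizer_le_normalizer' (S : Subgroup H)
        (x := ⟨z, hzH⟩) fun g hg => (mem_centralizer_singleton_iff'.1 (h13.ge hg).2).symm)
      have h15 := card_sylow_mul_card_normalizer S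
      rw [← h6, h1] at h15
      rw [← orderOf_coe, hz, show Nat.card (normalizer ((S : Subgroup H) : Set H)) = 50 by
        omega] at h14
      norm_num at h14
  obtain ⟨ω, hω⟩ : ∃ ω : G ⧸ H, x • ω ≠ ω := by
    by_contra! h9
    exact hx1 (toPermHom_injective (G ⧸ H) (exists_smul_ne_of_ne_top hHt)
      (by ext ω; simpa using h9 ω))
  have hf : (fixedBy (G ⧸ H) x)ᶜ.ncard = 5 := by
    have h9 := Set.ncard_add_ncard_compl (fixedBy (G ⧸ H) x)
    have h10 := (Set.ncard_pos (Set.toFinite _)).2 (⟨ω, hω⟩ : (fixedBy (G ⧸ H) x)ᶜ.Nonempty)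
    rw [← Nat.card_eq_fintype_card, Nat.card_coe_set_eq] at hf5 hf3
    rw [Nat.card_eq_fintype_card, hΩ] at h9
    simp only [Nat.ModEq] at hf5 hf3
    omega
  obtain ⟨a, rfl⟩ := QuotientGroup.mk_surjective ω
  set y := a * x * a⁻¹ with hy
  have h11 : IsConj x y := isConj_iff.2 ⟨a, rfl⟩
  have hxy : ¬ Commute y x := fun h' => hω ((hst a x).2 h')
  set K := centralizer ({y} : Set G) ⊓ H with hK
  have hKH : K.relIndex H ≤ 5 := by
    have h9 : K.subgroupOf H = stabilizer H (a : G ⧸ H) := by
      ext g
      rw [hK, inf_subgroupOf_right, mem_subgroupOf, mem_centralizer_singleton_iff',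
        mem_stabilizer_iff]
      exact (hst a g).symm
    rw [relIndex, h9, index_stabilizer, ← hf]
    refine Set.ncard_le_ncard ?_
    rintro _ ⟨g, rfl⟩ h'
    exact hω ((hfix g g.2 _).1 h')
  have hK60 : 60 ≤ Nat.card K := by
    have := card_inf_mul_relIndex K H
    rw [inf_eq_right.2 inf_le_right, h1] at this
    nlinarith
  have key : ∀ u : G, orderOf u = 5 → Nat.card (centralizer ({u} : Set G)) = 300 →
      K ≤ centralizer {u} → u ∉ K → centralizer {u} ≤ normalizer (K : Set G) := by
    intro u hu hC hKu huK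
    have h9 := card_inf_mul_relIndex K (centralizer {u})
    rw [inf_eq_right.2 hKu, hC] at h9
    have h10 : K.relIndex (zpowers u) = 5 := by
      have h12 := card_inf_mul_relIndex K (zpowers u)
      rw [Nat.card_zpowers, hu] at h12
      refine ((Nat.dvd_prime (by norm_num)).1 (Dvd.intro_left _ h12)).resolve_left fun h' => ?_
      exact huK (relIndex_eq_one.1 h' (mem_zpowers u))
    have h12 := relIndex_le_of_le_right (H := K) (zpowers_le.2 (show u ∈ normalizer (K : Set G) ⊓
      centralizer {u} from ⟨centralizer_le_normalizer' _ fun g hg =>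
        (mem_centralizer_singleton_iff'.1 (hKu hg)).symm, mem_centralizer_singleton_iff'.2 rfl⟩))
      index_ne_zero_of_finite
    have h13 := relIndex_mul_relIndex K (normalizer (K : Set G) ⊓ centralizer {u})
      (centralizer {u}) (le_inf le_normalizer hKu) inf_le_right
    have h14 : (normalizer (K : Set G) ⊓ centralizer {u}).relIndex (centralizer {u}) ≠ 0 :=
      index_ne_zero_of_finite
    refine (relIndex_eq_one.1 ?_).trans (inf_le_left (b := centralizer {u}))
    have : K.relIndex (centralizer {u}) ≤ 5 := by nlinarith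
    by_contra h15
    have : 2 ≤ (normalizer (K : Set G) ⊓ centralizer {u}).relIndex (centralizer {u}) := by omega
    nlinarith
  have hxK : x ∉ K := fun h' => hxy (mem_centralizer_singleton_iff'.1 h'.1)
  have h9 := key x hx h1 inf_le_right hxK
  have h10 := key y ((orderOf_eq_of_isConj h11).trans hx)
    ((card_centralizer_eq_of_isConj h11).trans h1) inf_le_left
    (fun h' => hxy (mem_centralizer_singleton_iff'.1 h'.2).symm)
  have h12 := hmax _ h9 (normalizer_ne_top (by rintro h'; rw [h', card_bot] at hK60; omega)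
    (fun h' => hxK (h' ▸ mem_top x)))
  exact hxy (mem_centralizer_singleton_iff'.1
    (h12.le (h10 (mem_centralizer_singleton_iff'.2 rfl)))).symm

end CL.Small
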