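import Cfsg.Agent.INV.Def1Spec
import Cfsg.Agent.INV.Def1Loc
import Cfsg.Agent.INV.Small5400
import Cfsg.Agent.INV.FixDim
import Cfsg.Agent.BLK.D1Det
import Cfsg.Agent.FGS.SylowNum
import Cfsg.Agent.SOLV.CoprimeSylow
import Cfsg.Agent.SPOR.Ord11c
import Cfsg.Agent.CLAS.SLBasic
import Cfsg.Agent.S0496
import Cfsg.Agent.S0983
import Cfsg.Agent.S0999

/-! The orders of the nonabelian simple groups of order at most `6232`. -/

set_option autoImplicit false
open Cfsg Subgroup CL.Small CL.D1

namespace CL.O6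

variable {G : Type*} [Group G] [Finite G] {p : ℕ} [hp : Fact p.Prime]

/-- coprime action: a prime `q` dividing `|K : C_K(P)|` has a power `≡ 1 mod p` dividing `|K|` -/
theorem exists_pow_of_dvd_relIndex {P K : Subgroup G} (hP : IsPGroup p P)
    (hn : P ≤ normalizer (K : Set G)) (hK : ¬ p ∣ Nat.card K) {q : ℕ} (hq : q.Prime)
    (h : q ∣ (centralizer (P : Set G)).relIndex K) :
    ∃ t, 0 < t ∧ q ^ t ∣ Nat.card K ∧ q ^ t % p = 1 := by
  have := Fact.mk hq
  obtain ⟨Q, hQ⟩ := CL.coprime_exists_invariant_sylow P K hn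
    (CL.coprime_card_of_isPGroup hP ((Nat.Prime.coprime_iff_not_dvd hp.out).2 hK).symm).symm
    (Or.inl (CL.isSolvable_of_isPGroup hP)) q
  set Q' := (Q : Subgroup K).map K.subtype with hQ'
  have hle : Q' ≤ K := map_subtype_le _
  have hd := card_dvd_of_le hle
  have h1 := CL.SN.relIndex_centralizer_modEq_one hP hQ (fun h => hK (h.trans hd))
  obtain ⟨k, hk⟩ := (Q.isPGroup'.map K.subtype).exists_card_eq
  have h2 : (centralizer (P : Set G)).relIndex Q' ∣ q ^ k := hk ▸ relIndex_dvd_card _ _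
  obtain ⟨t, -, ht⟩ := (Nat.dvd_prime_pow hq).1 h2
  refine ⟨t, Nat.pos_of_ne_zero ?_, ht ▸ (relIndex_dvd_card _ _).trans hd, ?_⟩
  · rintro rfl
    have h3 : Q' ≤ centralizer (P : Set G) ⊓ K := le_inf (relIndex_eq_one.1 ht) hle
    have h4 : (centralizer (P : Set G) ⊓ K).relIndex K ∣ Q'.relIndex K :=
      relIndex_dvd_of_le_left K h3
    rw [inf_relIndex_right] at h4
    have h5 : Q'.relIndex K = (Q : Subgroup K).index := by
      rw [hQ', relIndex, subgroupOf, comap_map_eq_self_of_injective K.subtype_injective]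
    exact Q.not_dvd_index (h5 ▸ h.trans h4)
  · rw [← ht, h1, Nat.mod_eq_of_lt hp.out.one_lt]

/-- `d` is divisible by two distinct small primes -/
def comp (d : ℕ) : Prop := ∃ a ∈ [2, 3, 5, 7], ∃ b ∈ [2, 3, 5, 7], a ≠ b ∧ a ∣ d ∧ b ∣ d

instance : DecidablePred comp := fun d => by unfold comp; infer_instance

theorem not_comp_pow {q t : ℕ} (hq : q.Prime) : ¬ comp (q ^ t) := by
  rintro ⟨a, ha, b, hb, hab, h1, h2⟩
  have hpr : ∀ a ∈ [2, 3, 5, 7], Nat.Prime a := by decide
  exact hab (((Nat.prime_dvd_prime_iff_eq (hpr a ha) hq).1 ((hpr a ha).dvd_of_dvd_pow h1)).trans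
    ((Nat.prime_dvd_prime_iff_eq (hpr b hb) hq).1 ((hpr b hb).dvd_of_dvd_pow h2)).symm)

theorem le_centralizer_of_comp {P K : Subgroup G} (hP : IsPGroup p P)
    (hn : P ≤ normalizer (K : Set G)) (hK : ¬ p ∣ Nat.card K) {n : ℕ} (hn0 : n ≠ 0)
    (hd : Nat.card K ∣ n) (h : ∀ d ∈ n.divisors, d % p = 1 → d = 1 ∨ comp d) :
    K ≤ centralizer (P : Set G) := by
  rw [← relIndex_eq_one]
  by_contra h1
  obtain ⟨t, ht, h2, h3⟩ := exists_pow_of_dvd_relIndex hP hn hK (Nat.minFac_prime h1)
    (Nat.minFac_dvd _)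
  rcases h _ (Nat.mem_divisors.2 ⟨h2.trans hd, hn0⟩) h3 with h4 | h4
  · exact (Nat.minFac_prime h1).ne_one ((Nat.pow_eq_one.1 h4).resolve_right ht.ne')
  · exact not_comp_pow (Nat.minFac_prime h1) h4

omit hp in
theorem no_1404 [IsSimpleGroup G] : Nat.card G ≠ 1404 := by
  intro h
  have hc : ¬ IsCyclic G := fun hc =>
    not_comm_of_not_prime (G := G) (by rw [h]; norm_num) inferInstance
  rcases Cfsg.Agent.S0999.result hc 13 (by norm_num) (by rw [h]; norm_num) (by rw [h]; norm_num) with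
    ⟨F, _, _, hF, -, ⟨e⟩⟩ | ⟨m, F, _, _, -, hm, -⟩
  · have := CL.SL.gcd_mul_card_PSL_two (F := F)
    rw [← Nat.card_congr e.toEquiv, h, Nat.card_eq_fintype_card, hF] at this
    norm_num at this
  · have : 3 ∣ 2 ^ m := by omega
    have := Nat.prime_three.dvd_of_dvd_pow this
    omega

theorem exists_deg_of_surv [IsSimpleGroup G] (hG : ¬ IsMulCommutative G) (hP1 : p ∣ Nat.card G)
    {a : ℕ} (h : surv (Nat.card G) p (fun _ _ _ s d =>
      (((d ::ₘ s).map Int.natAbs).filter fun x => x = a).card == 0) = false) :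
    ∃ χ : IrrCharacter G, charDegree χ.1 = a := by
  classical
  obtain ⟨P, e, c, D, -, -, -, θ, hθ, h1⟩ := exists_of_surv hG hP1 h
  rw [D.map_natAbs hθ] at h1
  simp only [beq_eq_false_iff_ne, ne_eq, Multiset.card_eq_zero] at h1
  obtain ⟨x, hx⟩ := Multiset.exists_mem_of_ne_zero h1
  rw [Multiset.mem_filter, Multiset.mem_map] at hx
  obtain ⟨⟨χ, -, rfl⟩, h2⟩ := hx
  exact ⟨χ, h2⟩

theorem no_deg_of_surv [IsSimpleGroup G] (hG : ¬ IsMulCommutative G) (hP1 : p ∣ Nat.card G)
    {ok : ℕ → Bool} (h : surv (Nat.card G) p (fun _ _ c s d => !(c == 1 &&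
      (((d ::ₘ s).map Int.natAbs).filter fun x => ok x = false).card == 0)) = false)
    (χ : IrrCharacter G) : charDegree χ.1 = 1 ∨ p ∣ charDegree χ.1 ∨ ok (charDegree χ.1) = true := by
  classical
  obtain ⟨P, e, c, D, hP, hC, -, θ, hθ, h1⟩ := exists_of_surv hG hP1 h
  rw [D.map_natAbs hθ] at h1
  simp only [Bool.not_eq_false', Bool.and_eq_true, beq_iff_eq, Multiset.card_eq_zero] at h1
  obtain ⟨rfl, h1⟩ := h1
  obtain ⟨x, -, hx⟩ := exists_mem_orderOf_eq_prime (P : Subgroup G) p (by rw [hP])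
  have hx' : Nat.card (centralizer ({x} : Set G)) = p := by
    rw [card_centralizer_eq P hP hx, hC, mul_one]
  by_cases h2 : χ = CL.Char.irrOne G
  · left; rw [h2]; exact CL.Char.charDegree_const_one
  by_cases h3 : χ ∈ D.X ∨ χ ∈ D.Y
  · right; right
    rw [Multiset.filter_eq_nil] at h1
    rcases h3 with h3 | h3
    · simpa using h1 _ (Multiset.mem_map_of_mem _ (Finset.mem_cons.2 (Or.inr h3)))
    · rw [D.deg_Y_eq h3 hθ]
      simpa using h1 _ (Multiset.mem_map_of_mem _ (Finset.mem_cons.2 (Or.inl rfl)))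
  · push Not at h3
    exact Or.inr (Or.inl (D.dvd_of_notMem hx hx' h2 h3.1 h3.2))

omit hp in
theorem no_3360 [IsSimpleGroup G] : Nat.card G ≠ 3360 := by
  intro h
  have hG := not_comm_of_not_prime (G := G) (by rw [h]; norm_num)
  have := Fact.mk (show Nat.Prime 7 by norm_num)
  have := Fact.mk (show Nat.Prime 5 by norm_num)
  obtain ⟨χ, hχ⟩ := exists_deg_of_surv (p := 7) (a := 16) hG (by rw [h]; norm_num)
    (by rw [h]; decide +kernel)
  have := no_deg_of_surv (p := 5) (ok := fun d => d != 16) hG (by rw [h]; norm_num)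
    (by rw [h]; decide +kernel) χ
  rw [hχ] at this
  simp at this

theorem vertex_of_surv [IsSimpleGroup G] (hG : ¬ IsMulCommutative G) (hP1 : p ∣ Nat.card G)
    (h : surv (Nat.card G) p (fun _ e c s d => !(c == 1 &&
      (1 + (s.map fun x => x.natAbs ^ 2).sum + ((p - 1) / e) * d.natAbs ^ 2 != Nat.card G))) = false) :
    ∃ χ : IrrCharacter G, p ∣ charDegree χ.1 := by
  classical
  obtain ⟨P, e, c, D, hP, hC, -, θ, hθ, h1⟩ := exists_of_surv hG hP1 h
  simp only [Bool.not_eq_false', Bool.and_eq_true, beq_iff_eq, bne_iff_ne, ne_eq] at h1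
  obtain ⟨rfl, h1⟩ := h1
  by_contra! h2
  apply h1
  obtain ⟨x, -, hx⟩ := exists_mem_orderOf_eq_prime (P : Subgroup G) p (by rw [hP])
  have hx' : Nat.card (centralizer ({x} : Set G)) = p := by
    rw [card_centralizer_eq P hP hx, hC, mul_one]
  have hu : (Finset.univ : Finset (IrrCharacter G)) = insert (CL.Char.irrOne G) (D.X ∪ D.Y) := by
    ext χ
    simp only [Finset.mem_univ, Finset.mem_insert, Finset.mem_union, true_iff]
    by_contra! h3
    exact h2 χ (D.dvd_of_notMem hx hx' h3.1 h3.2.1 h3.2.2)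
  rw [← CL.Ord.sum_deg_sq (G := G), hu, Finset.sum_insert (by simp [D.one_X, D.one_Y]),
    Finset.sum_union D.disj]
  have e0 : ∑ ψ ∈ D.Y, charDegree ψ.1 ^ 2 = D.Y.card * charDegree θ.1 ^ 2 := by
    rw [Finset.sum_congr rfl (fun ψ hψ => by rw [D.deg_Y_eq hψ hθ]), Finset.sum_const, smul_eq_mul]
  have e1 : charDegree (CL.Char.irrOne G).1 = 1 := CL.Char.charDegree_const_one
  have e2 : (p - 1) / e = D.Y.card := by
    have := D.card_Y
    exact Nat.div_eq_of_eq_mul_left D.e_pos (by omega)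
  have e3 : (D.ε * charDegree θ.1).natAbs = charDegree θ.1 := by
    rcases D.ε_sign with h | h <;> simp [h]
  have e4 : (D.sdeg.map fun x => x.natAbs ^ 2).sum = ∑ χ ∈ D.X, charDegree χ.1 ^ 2 := by
    rw [Data.sdeg, Multiset.map_map, Finset.sum_eq_multiset_sum]
    refine congrArg _ (Multiset.map_congr rfl fun χ hχ => ?_)
    rcases D.δ_sign χ hχ with h | h <;> simp [h]
  rw [e0, e1, e2, e3, e4]
  ring

omit hp in
theorem no_1512 [IsSimpleGroup G] : Nat.card G ≠ 1512 := by
  intro h
  have hG := not_comm_of_not_prime (G := G) (by rw [h]; norm_num)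
  have := Fact.mk (show Nat.Prime 7 by norm_num)
  obtain ⟨P, n, z, g, D, hS, -⟩ := exists_SC_of_surv (p := 7) (e := 6) (f := fun _ _ => true) hG
    (by rw [h]; norm_num) (by rw [h]; decide +kernel)
  obtain ⟨χ, hχ⟩ := exists_deg_of_surv (p := 7) (a := 6) hG (by rw [h]; norm_num)
    (by rw [h]; decide +kernel)
  have hN := hS.gN
  rw [hS.hP] at hN
  have hg3 : orderOf (g ^ 3) = 2 := by rw [orderOf_pow' _ (by norm_num), hS.hg]; rfl
  have hz : g ^ 3 ∉ zpowers z := fun h' => by
    have := orderOf_dvd_card_of_mem h'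
    rw [Nat.card_zpowers, hS.hz, hg3] at this
    omega
  have h0 := CL.D1T.eq_zero_of_degree (p := 7) ⟨hS.hz, hS.hC⟩ (fun h' => hz
    (relIndex_eq_one.1 h' (pow_mem hN 3))) χ.2 (by rw [hχ]) (pow_mem hN 3) hz
  obtain ⟨b, hb⟩ := CL.D1T.exists_four_mul (commutator_eq_top hG) χ.2.isCharacter
    (u := g ^ 3) (by rw [← sq, ← hg3, pow_orderOf_eq_one])
  rw [h0, χ.2.apply_one_eq_charDegree, hχ] at hb
  have : (6 : ℕ) = 4 * b := by exact_mod_cast (by simpa using hb : ((6 : ℕ) : ℂ) = 4 * b)
  omega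

omit hp in
theorem five_sq [IsSimpleGroup G] {m : ℕ} (h : Nat.card G = 5 ^ 2 * m) (hm : ¬ 5 ∣ m)
    (hm' : ∀ d ∈ m.divisors, d % 25 = 1 → d = 1) :
    ∃ (P : Sylow 5 G) (x : G) (s t : ℕ), x ∈ (P : Subgroup G) ∧ orderOf x = 5 ∧
      (P : Subgroup G) ≤ centralizer {x} ∧ Nat.card (centralizer ({x} : Set G)) = 25 * s ∧
      s * (centralizer ({x} : Set G)).index = m ∧ t ∣ s ∧ 1 < t ∧ t % 5 = 1 ∧ s ≠ 6 ∧
      t = Nat.card (Sylow 5 (centralizer ({x} : Set G))) := by
  have hG := not_comm_of_not_prime (G := G) (by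
    rw [h, sq, mul_assoc]; exact Nat.not_prime_mul (by norm_num) (by omega))
  have := Fact.mk (show Nat.Prime 5 by norm_num)
  have hPc : ∀ P : Sylow 5 G, Nat.card P = 5 ^ 2 := fun P => card_sylow_eq_of_factor P h hm
  obtain ⟨P⟩ : Nonempty (Sylow 5 G) := inferInstance
  have := IsPGroup.isMulCommutative_of_card_eq_prime_sq (hPc P)
  obtain ⟨R, hPR, x, hx1, hxP, hxR, hP, hR⟩ := exists_centralizer_two_sylow P (hPc P) (by
    intro h1
    have h2 := hm' _ (Nat.mem_divisors.2 ⟨card_sylow_dvd_of_factor h hm, by rintro rfl; simp at hm⟩) h1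
    have := one_lt_card_sylow (G := G) (p := 5) hG (by rw [h]; exact Dvd.intro (5 * m) (by ring))
    omega)
  set H := centralizer ({x} : Set G) with hH
  have hx : orderOf x = 5 := by
    have h1 := card_dvd_of_le (inf_lt_left_of_ne hPR).le
    have h2 : Nat.card ↥((P : Subgroup G) ⊓ R) < Nat.card P := by
      by_contra h2
      exact (inf_lt_left_of_ne hPR).ne (eq_of_le_of_card_ge inf_le_left (by omega))
    have h3 := orderOf_dvd_card_of_mem (H := (P : Subgroup G) ⊓ R) ⟨hxP, hxR⟩
    have h4 := h3.trans h1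
    have h5 := Nat.le_of_dvd Nat.card_pos h3
    rw [hPc] at h4 h2
    obtain ⟨i, hi, h6⟩ := (Nat.dvd_prime_pow (by norm_num)).1 h4
    interval_cases i
    · exact absurd (by simpa using h6) hx1
    · simpa using h6
    · omega
  obtain ⟨s, t, h1, h2, h3, h4, h5, h6⟩ := card_of_two_sylow_le hPR hP hR
  rw [index_sylow_eq_of_factor P h hm] at h5
  rw [hPc] at h1
  refine ⟨P, x, s, t, hxP, hx, hP, h1, h5, h2, h3, h4, ?_, h6⟩
  rintro rfl
  obtain ⟨K, hK⟩ := exists_index_two_of_mod_four (G := H) (by omega)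
  have := K.normal_of_index_eq_two hK
  have h9 : ∀ S : Sylow 5 G, (S : Subgroup G) ≤ H → (S : Subgroup G) ≤ K.map H.subtype := by
    intro S hS y hy
    exact ⟨⟨y, hS hy⟩, le_of_normal_of_not_dvd_index (P := (S : Subgroup G).subgroupOf H)
      (S.2.comap_subtype) (by rw [hK]; norm_num) hy, rfl⟩
  obtain ⟨s', t', h1', h2', h3', h4', -⟩ := card_of_two_sylow_le hPR (h9 P hP) (h9 R hR)
  rw [card_map_of_injective H.subtype_injective, hPc] at h1'
  have h10 := K.card_mul_index
  have h11 : s' = 3 := by rw [hK, h1, h1'] at h10; omega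
  have := Nat.le_of_dvd (by omega) h2'
  subst h11
  interval_cases t' <;> omega

omit hp in
theorem ten_le_index [IsSimpleGroup G] (hG : ¬ IsMulCommutative G) (h : 25 ∣ Nat.card G)
    {K : Subgroup G} (hK : K ≠ ⊤) : 10 ≤ K.index := by
  by_contra h1
  have := ((h.mul_left 2).trans (two_mul_card_dvd_factorial hG K hK)).trans
    (Nat.factorial_dvd_factorial (show K.index ≤ 9 by omega))
  norm_num [Nat.factorial] at this

omit hp in
theorem no_1800_2700 [IsSimpleGroup G] : Nat.card G ≠ 1800 ∧ Nat.card G ≠ 2700 := by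
  constructor <;> intro h
  · have hG := not_comm_of_not_prime (G := G) (by rw [h]; norm_num)
    obtain ⟨P, x, s, t, -, hx, -, -, h1, h2, h3, h4, h5, -⟩ := five_sq (G := G) (m := 72) h
      (by norm_num) (by decide +kernel)
    have h6 := ten_le_index hG (by rw [h]; norm_num)
      (centralizer_ne_top hG (x := x) (by rintro rfl; simp at hx))
    have : s ≤ 7 := by nlinarith
    have := Nat.le_of_dvd (Nat.pos_of_ne_zero (by rintro rfl; omega)) h2
    obtain rfl : t = 6 := by omega
    omega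
  · have hG := not_comm_of_not_prime (G := G) (by rw [h]; norm_num)
    obtain ⟨P, x, s, t, -, hx, -, -, h1, h2, h3, h4, h5, -⟩ := five_sq (G := G) (m := 108) h
      (by norm_num) (by decide +kernel)
    have h6 := ten_le_index hG (by rw [h]; norm_num)
      (centralizer_ne_top hG (x := x) (by rintro rfl; simp at hx))
    have : s ≤ 10 := by nlinarith
    have := Nat.le_of_dvd (Nat.pos_of_ne_zero (by rintro rfl; omega)) h2
    obtain rfl : t = 6 := by omega
    omega

omit hp in
theorem no_3600 [IsSimpleGroup G] : Nat.card G ≠ 3600 := by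
  intro h
  have hG := not_comm_of_not_prime (G := G) (by rw [h]; norm_num)
  have := Fact.mk (show Nat.Prime 5 by norm_num)
  obtain ⟨P, x, s, t, hxP, hx, hPH, h0, h1, h2, h3, h4, h5, ht⟩ := five_sq (G := G) (m := 144) h
    (by norm_num) (by decide +kernel)
  have hx1 : x ≠ 1 := by rintro rfl; simp at hx
  have hidx : ∀ K : Subgroup G, K ≠ ⊤ → 10 ≤ K.index := fun K hK =>
    ten_le_index hG (by rw [h]; norm_num) hK
  set H := centralizer ({x} : Set G) with hH
  have h6 := hidx H (centralizer_ne_top hG hx1)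
  have hs : s = 12 ∧ t = 6 := by
    have : s ≤ 14 := by nlinarith
    have hd : s ∣ 144 := Dvd.intro _ h1
    have := Nat.le_of_dvd (Nat.pos_of_ne_zero (by rintro rfl; omega)) h2
    have ht' : t = 6 ∨ t = 11 := by omega
    rcases ht' with rfl | rfl
    · omega
    · exact absurd (h2.trans hd) (by norm_num)
  obtain ⟨rfl, rfl⟩ := hs
  have hHi : H.index = 12 := by omega
  have hPc : Nat.card P = 5 ^ 2 := card_sylow_eq_of_factor P (m := 144) h (by norm_num)
  have hab := IsPGroup.isMulCommutative_of_card_eq_prime_sq hPc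
  have hcomm : ∀ a ∈ (P : Subgroup G), ∀ b ∈ (P : Subgroup G), a * b = b * a := fun a ha b hb =>
    congrArg Subtype.val (mul_comm' (⟨a, ha⟩ : (P : Subgroup G)) ⟨b, hb⟩)
  have hNx : normalizer ((zpowers x : Subgroup G) : Set G) = H := by
    have hle : H ≤ normalizer ((zpowers x : Subgroup G) : Set G) := by
      rw [hH, ← centralizer_zpowers_eq]; exact centralizer_le_normalizer' _
    have h9 := hidx _ (normalizer_ne_top (H := zpowers x) (by simpa using hx1) fun h' => by
      have := Nat.card_zpowers x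
      rw [h', card_top, h, hx] at this
      omega)
    have h10 := index_dvd_of_le hle
    rw [hHi] at h10
    have h11 : (normalizer ((zpowers x : Subgroup G) : Set G)).index = 12 := by
      have := Nat.le_of_dvd (by norm_num) h10
      interval_cases (normalizer ((zpowers x : Subgroup G) : Set G)).index <;> omega
    have h12 := (normalizer ((zpowers x : Subgroup G) : Set G)).card_mul_index
    exact (eq_of_le_of_card_ge hle (by rw [h11, h] at h12; omega)).symm
  set N := normalizer ((P : Subgroup G) : Set G) with hN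
  set P' : Sylow 5 H := P.subtype hPH with hP'
  have hN' : normalizer ((P' : Subgroup H) : Set H) = N.subgroupOf H := by
    rw [hP', Sylow.coe_subtype, hN, subgroupOf_normalizer_eq hPH]
  have h50 : Nat.card (N ⊓ H : Subgroup G) = 50 := by
    have := card_sylow_mul_card_normalizer P'
    rw [← ht, h0, hN', ← card_map_of_injective H.subtype_injective, subgroupOf_map_subtype] at this
    omega
  have h100 : Nat.card N = 100 := by
    have h7 := card_sylow_mul_card_normalizer P
    have h8 := card_sylow_mod (G := G) (p := 5)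
    have h9 := hidx _ (sylow_normalizer_ne_top hG P (by rw [h]; norm_num))
    rw [← card_sylow_eq_index] at h9
    obtain ⟨k, hk⟩ : 50 ∣ Nat.card N := h50 ▸ card_dvd_of_le inf_le_left
    rw [h, ← hN, hk] at h7
    rw [hk]
    have h10 : Nat.card (Sylow 5 G) * k = 72 := by nlinarith
    have : k ≤ 7 := by nlinarith
    interval_cases k <;> omega
  obtain ⟨a, ⟨haN, haH⟩, ha⟩ := exists_mem_orderOf_eq_prime (N ⊓ H) 2 (by rw [h50]; norm_num)
  have haP : a ∉ (P : Subgroup G) := fun h' => by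
    have := orderOf_dvd_card_of_mem h'
    rw [hPc, ha] at this
    omega
  have haC : a ∉ centralizer ((P : Subgroup G) : Set G) := by
    intro haC
    have h7 : N ⊓ H ≤ centralizer ((P : Subgroup G) : Set G) := by
      have h8 : (P : Subgroup G) < centralizer ((P : Subgroup G) : Set G) ⊓ (N ⊓ H) :=
        lt_of_le_of_ne (le_inf (le_centralizer _) (le_inf le_normalizer hPH))
          fun h' => haP (h' ▸ ⟨haC, haN, haH⟩)
      have h9 := card_dvd_of_le h8.le
      have h10 := card_dvd_of_le (inf_le_right : centralizer ((P : Subgroup G) : Set G) ⊓ (N ⊓ H) ≤ _)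
      have h11 : Nat.card (centralizer ((P : Subgroup G) : Set G) ⊓ (N ⊓ H) : Subgroup G) ≠ 25 :=
        fun h' => h8.ne (eq_of_le_of_card_ge h8.le (by rw [h', hPc]; rfl))
      rw [hPc] at h9
      rw [h50] at h10
      have := Nat.le_of_dvd (by norm_num) h10
      obtain ⟨k, hk⟩ := h9
      refine inf_eq_right.1 (eq_of_le_of_card_ge inf_le_right ?_)
      rw [hk] at this h10 h11 ⊢
      rw [h50]
      have : k ≤ 2 := by omega
      interval_cases k <;> simp_all
    obtain ⟨K, hKn, hK⟩ := CL.Ord.exists_compl P' (by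
      rw [hN']
      intro y hy w hw
      exact Subtype.ext (h7 ⟨hy, y.2⟩ w hw))
    have hP'c : Nat.card P' = 25 := card_sylow_eq_of_factor P' (a := 2) (m := 12) h0 (by norm_num)
    rw [hP'c, h0] at hK
    have hK12 : Nat.card K = 12 := by omega
    have h8 := le_centralizer_of_comp (p := 5) (K := K) P'.isPGroup'
      (by rw [normalizer_eq_top]; exact le_top) (by rw [hK12]; norm_num) (n := 12) (by norm_num)
      (by rw [hK12]) (by decide)
    have h9 := card_dvd_of_le (h8.trans (centralizer_le_normalizer' _))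
    have h10 := card_sylow_mul_card_normalizer P'
    rw [← ht, h0] at h10
    rw [hK12] at h9
    omega
  have hPa : (P : Subgroup G) ⊓ centralizer {a} = zpowers x := by
    have h7 : zpowers x ≤ (P : Subgroup G) ⊓ centralizer {a} :=
      zpowers_le.2 ⟨hxP, mem_centralizer_singleton_iff'.2
        (mem_centralizer_singleton_iff'.1 haH).symm⟩
    have h8 := card_dvd_of_le h7
    have h9 := card_dvd_of_le (inf_le_left : (P : Subgroup G) ⊓ centralizer {a} ≤ _)
    have h10 : Nat.card ((P : Subgroup G) ⊓ centralizer {a} : Subgroup G) ≠ 25 := fun h' => by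
      have := eq_of_le_of_card_ge (inf_le_left : (P : Subgroup G) ⊓ centralizer {a} ≤ _)
        (by rw [h', hPc]; rfl)
      exact haC fun w hw => (mem_centralizer_singleton_iff'.1 (this.ge hw).2).symm
    rw [Nat.card_zpowers, hx] at h8
    rw [hPc] at h9
    have := Nat.le_of_dvd (by norm_num) h9
    refine (eq_of_le_of_card_ge h7 ?_).symm
    rw [Nat.card_zpowers, hx]
    interval_cases Nat.card ((P : Subgroup G) ⊓ centralizer {a} : Subgroup G) <;> omega
  have hNH : N ≤ H := by
    intro b hb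
    rw [← hNx]
    have hq : Nat.card (N ⧸ (P : Subgroup G).subgroupOf N) = 2 ^ 2 := by
      have := card_eq_card_quotient_mul_card_subgroup ((P : Subgroup G).subgroupOf N)
      rw [h100, Nat.card_congr (subgroupOfEquivOfLe le_normalizer).toEquiv, hPc] at this
      omega
    have hc := IsPGroup.isMulCommutative_of_card_eq_prime_sq hq
    have hu : (a * b)⁻¹ * (b * a) ∈ (P : Subgroup G) := by
      have : ((⟨a, haN⟩ * ⟨b, hb⟩ : N) : N ⧸ (P : Subgroup G).subgroupOf N) =
          ((⟨b, hb⟩ * ⟨a, haN⟩ : N) : N ⧸ (P : Subgroup G).subgroupOf N) := by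
        rw [QuotientGroup.mk_mul, QuotientGroup.mk_mul]; exact mul_comm' _ _
      exact mem_subgroupOf.1 (QuotientGroup.eq.1 this)
    have hy : b⁻¹ * x * b ∈ zpowers x := by
      have hyP : b⁻¹ * x * b ∈ (P : Subgroup G) := by
        simpa using (mem_normalizer_iff.1 (inv_mem hb) x).1 hxP
      rw [← hPa]
      refine ⟨hyP, mem_centralizer_singleton_iff'.2 ?_⟩
      have e1 := hcomm _ hu _ hyP
      have e2 := mem_centralizer_singleton_iff'.1 haH
      have e3 : (b⁻¹ * a⁻¹ * b) * (b⁻¹ * x * b) = (b⁻¹ * x * b) * (b⁻¹ * a⁻¹ * b) := by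
        calc _ = b⁻¹ * (a⁻¹ * (x * a) * a⁻¹) * b := by group
          _ = _ := by rw [e2]; group
      calc a * (b⁻¹ * x * b) = (b⁻¹ * a⁻¹ * b)⁻¹ * ((a * b)⁻¹ * (b * a) * (b⁻¹ * x * b)) := by group
        _ = (b⁻¹ * a⁻¹ * b)⁻¹ * ((b⁻¹ * x * b) * (b⁻¹ * a⁻¹ * b)) * a := by rw [e1]; group
        _ = _ := by rw [← e3]; group
    rw [← inv_mem_iff]
    refine mem_normalizer_fintype ?_
    rintro _ ⟨k, rfl⟩
    have := zpow_mem hy k
    rw [show b⁻¹ * x * b = b⁻¹ * x * b⁻¹⁻¹ by simp, conj_zpow] at this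
    exact this
  rw [inf_eq_left.2 hNH, h100] at h50
  omega

omit hp in
theorem range_mid : CL.D1.range [1404, 1512, 1800, 2448, 2520, 2700, 3360, 3420, 3600] 1093 2548 =
    true := by decide +kernel

omit hp in
/-- the orders of the nonabelian simple groups up to `6232` -/
theorem orders [IsSimpleGroup G] (hG : ¬ IsMulCommutative G) (h : Nat.card G ≤ 6232) :
    Nat.card G ∈ [60, 168, 360, 504, 660, 1092, 2448, 2520, 3420, 4080, 5616, 6048, 6072] := by
  simp only [List.mem_cons, List.not_mem_nil, or_false]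
  by_cases h1 : Nat.card G ≤ 1092
  · have := Cfsg.Agent.S0496.result hG h1
    omega
  by_cases h2 : 3640 < Nat.card G
  · have := Cfsg.Agent.S0983.result hG h2 h
    omega
  have := mem_of_range hG (hasData_of_simple hG) range_mid (by omega) (by omega)
  simp only [List.mem_cons, List.not_mem_nil, or_false] at this
  have a1 := no_1404 (G := G)
  have a2 := no_1512 (G := G)
  have a3 := no_1800_2700 (G := G)
  have a4 := no_3360 (G := G)
  have a5 := no_3600 (G := G)
  omega

end CL.O6
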