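import Cfsg.Agent.INV.Ord6000
import Cfsg.Agent.SOLV.Fitting
import Cfsg.Agent.SOLV.MinNormal
import Cfsg.Agent.CHAR.Gallagher
import Cfsg.Agent.CHAR.Burnside
import Cfsg.Agent.CHAR.Galois
import Cfsg.Agent.ORD.Deg1

/-! Groups with a non-normal Sylow subgroup of prime order: the simple section above the
`p'`-core, and consequences for character degrees. -/

set_option autoImplicit false
open Cfsg Subgroup CL.Small CL.D1 CL.O6

namespace CL.DR

variable {G : Type*} [Group G] [Finite G] {p : ℕ} [hp : Fact p.Prime]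

/-- `p` divides a character degree -/
def Vx (G : Type*) [Group G] (n : ℕ) : Prop := ∃ χ : IrrCharacter G, n ∣ charDegree χ.1

theorem exists_simple_normal (h1 : p ∣ Nat.card G) (h2 : ¬ p ^ 2 ∣ Nat.card G)
    (hc : pPrimeCore p G = ⊥) :
    ∃ M : Subgroup G, M.Normal ∧ IsSimpleGroup M ∧ p ∣ Nat.card M := by
  obtain ⟨x, hx⟩ := exists_prime_orderOf_dvd_card' p h1
  set M := normalClosure ({x} : Set G) with hM
  have hxM : x ∈ M := subset_normalClosure rfl
  have hpM : p ∣ Nat.card M := hx ▸ orderOf_dvd_card_of_mem hxM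
  have : Nontrivial M := by
    rw [← Finite.one_lt_card_iff_nontrivial]
    exact hp.out.one_lt.trans_le (Nat.le_of_dvd Nat.card_pos hpM)
  refine ⟨M, inferInstance, ⟨fun N hN => ?_⟩, hpM⟩
  by_cases h : p ∣ Nat.card N
  · right
    have hi : ¬ p ∣ N.index := fun h' => h2 (by
      rw [sq]; exact (Nat.mul_dvd_mul h h').trans (N.card_mul_index ▸ card_subgroup_dvd_card M))
    have : M ≤ N.map M.subtype := by
      refine (closure_le _).2 fun y hy => ?_
      have hyM : y ∈ M := subset_closure hy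
      obtain ⟨a, rfl, ha⟩ := Group.mem_conjugatesOfSet_iff.1 hy
      have h3 : orderOf (⟨y, hyM⟩ : M) = p ^ 1 := by
        rw [orderOf_mk, orderOf_eq_of_isConj ha, hx, pow_one]
      exact ⟨⟨y, hyM⟩, le_of_normal_of_not_dvd_index (isPGroup_zpowers_of_orderOf h3) hi
        (mem_zpowers _), rfl⟩
    exact eq_top_iff.2 fun y _ => by
      obtain ⟨z, hz, h3⟩ := this y.2
      exact (Subtype.ext h3 : z = y) ▸ hz
  · left
    have := le_pPrimeCore (N := N) ((Nat.Prime.coprime_iff_not_dvd hp.out).2 h).symm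
    rwa [pPrimeCore_eq_bot_of_isSubnormal (Normal.isSubnormal inferInstance) hc, le_bot_iff] at this

omit [Finite G] in
theorem comm_of_card {P : Subgroup G} (hP : Nat.card P = p) : ∀ a ∈ P, ∀ b ∈ P, a * b = b * a :=
  fun a ha b hb => by
    have := isCyclic_of_prime_card hP
    exact congrArg Subtype.val (mul_comm' (⟨a, ha⟩ : P) ⟨b, hb⟩)

theorem not_normal_of_vx (P : Sylow p G) (hP : Nat.card P = p) (hv : Vx G p) :
    ¬ (P : Subgroup G).Normal := fun _ => by
  obtain ⟨χ, hχ⟩ := hv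
  exact P.not_dvd_index (hχ.trans (χ.2.charDegree_dvd_index_of_abelian _ (comm_of_card hP)))

theorem not_le_centralizer (P : Sylow p G) (hP : Nat.card P = p) (hn : ¬ (P : Subgroup G).Normal)
    {K : Subgroup G} [K.Normal] {M : Subgroup (G ⧸ K)} [M.Normal]
    (hM : Nat.card M = p) : ¬ K ≤ centralizer ((P : Subgroup G) : Set G) := by
  intro h
  have h1 : (P : Subgroup G).map (QuotientGroup.mk' K) = M := by
    have h2 : IsPGroup p M := IsPGroup.of_card (n := 1) (by rw [hM, pow_one])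
    have h3 := le_sylow_of_normal h2 (P.mapSurjective (QuotientGroup.mk'_surjective K))
    refine (eq_of_le_of_card_ge h3 ?_).symm
    rw [hM]
    exact Nat.le_of_dvd hp.out.pos ((card_map_dvd (P : Subgroup G) _).trans hP.dvd)
  have h2 : M.comap (QuotientGroup.mk' K) = (P : Subgroup G) ⊔ K := by
    rw [← h1, comap_map_eq, QuotientGroup.ker_mk']
  have h3 : normalizer ((P : Subgroup G) : Set G) ⊔ _ = ⊤ :=
    Sylow.normalizer_sup_eq_top' (N := M.comap (QuotientGroup.mk' K)) P (h2 ▸ le_sup_left)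
  rw [h2, sup_eq_left.2 (sup_le le_normalizer (h.trans (centralizer_le_normalizer' _)))] at h3
  exact hn (normalizer_eq_top_iff.1 h3)

theorem exists_not_vx [Group.IsSolvable G] (P : Sylow p G) (hP : Nat.card P = p)
    (hn : ¬ (P : Subgroup G).Normal) {q : ℕ}
    (h : ∀ r t, r.Prime → 0 < t → r ^ t ∣ Nat.card G → r ^ t % p = 1 →
      r = q ∧ ¬ r ^ (t + 1) ∣ Nat.card G) : ¬ Vx G q := by
  obtain ⟨r, hr⟩ : ∃ r : Nat.Primes, ¬ pCore r G ≤ centralizer ((P : Subgroup G) : Set G) := by
    by_contra! h1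
    have h2 : (P : Subgroup G) ≤ pCore p G := le_pCore_of_le_fittingSubgroup
      ((le_centralizer_iff.1 (fittingSubgroup_eq_iSup_pCore G ▸ iSup_le h1)).trans
        (centralizer_fittingSubgroup_le G)) P.isPGroup'
    exact hn (le_antisymm h2 (pCore_le_sylow P) ▸ inferInstance)
  obtain ⟨r, hr'⟩ := r
  have := Fact.mk hr'
  have hrp : r ≠ p := by
    rintro rfl
    exact hr fun a ha b hb => comm_of_card hP b hb a (pCore_le_sylow P ha)
  have key : ∀ Q : Subgroup G, Q.Normal → Q ≤ pCore r G →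
      ¬ Q ≤ centralizer ((P : Subgroup G) : Set G) → r = q ∧ ¬ r ∣ Q.index ∧
        centralizer ((P : Subgroup G) : Set G) ⊓ Q = ⊥ := by
    intro Q hQ h1 h2
    obtain ⟨k, hk⟩ := (isPGroup_of_le_pCore h1).exists_card_eq
    have h3 := CL.SN.relIndex_centralizer_modEq_one (K := Q) P.isPGroup'
      (by rw [normalizer_eq_top]; exact le_top) (by
        rw [hk]; exact fun h' => hrp ((Nat.prime_dvd_prime_iff_eq hp.out hr').1
          (hp.out.dvd_of_dvd_pow h')).symm)
    have h4 := relIndex_dvd_card (centralizer ((P : Subgroup G) : Set G)) Q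
    obtain ⟨t, ht, h5⟩ := (Nat.dvd_prime_pow hr').1 (hk ▸ h4)
    obtain ⟨h6, h7⟩ := h r t hr' (Nat.pos_of_ne_zero (by rintro rfl; exact h2 (relIndex_eq_one.1 h5)))
      (h5 ▸ h4.trans (card_subgroup_dvd_card Q)) (by rw [← h5, h3, Nat.mod_eq_of_lt hp.out.one_lt])
    have h8 : t = k := by
      by_contra h8
      exact h7 ((pow_dvd_pow r (by omega)).trans (hk ▸ card_subgroup_dvd_card Q))
    refine ⟨h6, fun h9 => h7 ?_, ?_⟩
    · rw [← Q.card_mul_index, hk, h8, pow_succ]; exact Nat.mul_dvd_mul_left _ h9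
    · have h9 := ((centralizer ((P : Subgroup G) : Set G)).subgroupOf Q).card_mul_index
      rw [← relIndex, h5, hk, h8, Nat.mul_eq_right (pow_pos hr'.pos k).ne', card_eq_one,
        subgroupOf_eq_bot] at h9
      exact h9.eq_bot
  obtain ⟨-, -, h1⟩ := key _ inferInstance le_rfl hr
  have h2 := inf_centralizer_ne_bot_of_isNilpotent (N := pCore r G) (H := pCore r G)
    (isPGroup_pCore r G).isNilpotent le_rfl le_normalizer (fun h' => hr (h' ▸ bot_le))
  obtain ⟨rfl, h3, -⟩ := key (pCore r G ⊓ centralizer (pCore r G : Set G)) inferInstance inf_le_left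
    fun h' => h2 (le_bot_iff.1 (h1 ▸ le_inf h' inf_le_left))
  rintro ⟨χ, hχ⟩
  exact h3 (hχ.trans (χ.2.charDegree_dvd_index_of_abelian _ fun a ha b hb => hb.2 a ha.1))

omit hp in
theorem vx_of_section {K : Subgroup G} [K.Normal] {M : Subgroup (G ⧸ K)} [M.Normal] {n : ℕ}
    (h : Vx M n) : Vx G n := by
  obtain ⟨φ, hφ⟩ := h
  have := Fintype.ofFinite M
  obtain ⟨ψ, hψ, h1⟩ := φ.2.exists_over
  refine ⟨⟨_, (CL.Char.isIrrCharacter_comp_surjective_iff _
    (QuotientGroup.mk'_surjective K)).2 hψ⟩, hφ.trans ?_⟩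
  rw [CL.Char.charDegree_comp]
  exact CL.Char.degree_dvd_of_under hψ φ.2 h1 hψ.apply_one_eq_charDegree φ.2.apply_one_eq_charDegree

omit hp in
theorem simple_of_card {K : Subgroup G} [K.Normal] {M : Subgroup (G ⧸ K)} [IsSimpleGroup M]
    (h : Nat.card M = Nat.card G) : IsSimpleGroup G := by
  have h1 := Nat.le_of_dvd Nat.card_pos (card_subgroup_dvd_card M)
  have h2 := Nat.le_of_dvd Nat.card_pos (card_quotient_dvd_card K)
  have h3 : M = ⊤ := eq_top_of_card_eq M (by omega)
  have e := MulEquiv.ofBijective (QuotientGroup.mk' K)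
    ((QuotientGroup.mk'_surjective K).bijective_of_nat_card_le (by omega))
  subst h3
  exact (e.trans topEquiv.symm).isSimpleGroup

/-- the possible orders -/
abbrev OL : List ℕ := [60, 168, 360, 504, 660, 1092, 2448, 2520, 3420, 4080, 5616, 6048, 6072]

theorem reduce {m : ℕ} (hm : Nat.card G = p * m) (hpm : ¬ p ∣ m) (hv : Vx G p)
    (hle : Nat.card G ≤ 6232) :
    ((∃ d ∈ m.divisors, d % p = 1 ∧ d ≠ 1 ∧ ¬ comp d) ∧
      ∀ a b, m ∣ 2 ^ a * 3 ^ b → Group.IsSolvable G) ∨
    ∃ M : Subgroup (G ⧸ pPrimeCore p G), M.Normal ∧ IsSimpleGroup M ∧ ¬ IsMulCommutative M ∧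
      p ∣ Nat.card M ∧ Nat.card M ∣ Nat.card G ∧
      Nat.card M ∈ OL := by
  obtain ⟨P⟩ : Nonempty (Sylow p G) := inferInstance
  have hP : Nat.card P = p := by
    simpa using card_sylow_eq_of_factor P (a := 1) (by rw [hm, pow_one]) hpm
  have hn := not_normal_of_vx P hP hv
  set K := pPrimeCore p G
  have hK : ¬ p ∣ Nat.card K := not_dvd_card_pPrimeCore p G
  have h1 := card_eq_card_quotient_mul_card_subgroup K
  have hKm : Nat.card K ∣ m := ((Nat.Prime.coprime_iff_not_dvd hp.out).2 hK).symm.dvd_of_dvd_mul_left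
    (hm ▸ card_subgroup_dvd_card K)
  obtain ⟨M, hM, hs, hpM⟩ := exists_simple_normal (G := G ⧸ K) (p := p)
    (((Nat.Prime.dvd_mul hp.out).1 (h1 ▸ hm ▸ Dvd.intro _ rfl)).resolve_right hK)
    (fun h => not_sq_dvd P hP (h.trans (card_quotient_dvd_card K)))
    (pPrimeCore_quotient_pPrimeCore p G)
  have hMG := (card_subgroup_dvd_card M).trans (card_quotient_dvd_card K)
  by_cases hc : IsMulCommutative M
  · left
    have hMp : Nat.card M = p := by
      by_contra h
      refine not_comm_of_not_prime (G := M) (fun h' => h ?_) hc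
      exact ((Nat.prime_dvd_prime_iff_eq hp.out h').1 hpM).symm
    have hm0 : m ≠ 0 := by rintro rfl; simp at hpm
    refine ⟨?_, fun a b hab => ?_⟩
    · by_contra! h
      refine not_le_centralizer P hP hn hMp (le_centralizer_of_comp P.isPGroup'
        (by rw [normalizer_eq_top]; exact le_top) hK hm0 hKm fun d hd hd' => ?_)
      by_cases h' : d = 1
      exacts [Or.inl h', Or.inr (h d hd hd' h')]
    · have := CL.Char.isSolvable_of_card_dvd_pow_mul_pow Nat.prime_two Nat.prime_three (hKm.trans hab)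
      have h2 : Nat.card ((G ⧸ K) ⧸ M) ∣ m := by
        have h3 := card_quotient_dvd_card K
        rw [card_eq_card_quotient_mul_card_subgroup M, hMp, hm, mul_comm] at h3
        exact Nat.dvd_of_mul_dvd_mul_left hp.out.pos h3
      have := CL.Char.isSolvable_of_card_dvd_pow_mul_pow Nat.prime_two Nat.prime_three (h2.trans hab)
      have : Group.IsSolvable M := Group.isSolvable_of_comm fun a b => mul_comm' a b
      have : Group.IsSolvable (G ⧸ K) := Group.isSolvable_of_ker_le_range M.subtype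
        (QuotientGroup.mk' M) (by simp)
      exact Group.isSolvable_of_ker_le_range K.subtype (QuotientGroup.mk' K) (by simp)
  · exact Or.inr ⟨M, hM, hs, hc, hpM, hMG, orders hc ((Nat.le_of_dvd Nat.card_pos hMG).trans hle)⟩

theorem simple_of_vx {m : ℕ} (hm : Nat.card G = p * m) (hpm : ¬ p ∣ m) (hv : Vx G p)
    (hle : p * m ≤ 6232) (h1 : ∀ d ∈ m.divisors, d % p = 1 → d = 1 ∨ comp d)
    (h2 : ∀ s ∈ OL, p ∣ s → s ∣ p * m → s = p * m) : IsSimpleGroup G := by
  rcases reduce hm hpm hv (hm ▸ hle) with ⟨⟨d, hd, h3, h4, h5⟩, -⟩ | ⟨M, -, _, -, h3, h4, h5⟩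
  · exact absurd (h1 d hd h3) (by tauto)
  · exact simple_of_card ((h2 _ h5 h3 (hm ▸ h4)).trans hm.symm)

theorem reduce_solv {m : ℕ} (hm : Nat.card G = p * m) (hpm : ¬ p ∣ m) (hv : Vx G p)
    (hle : p * m ≤ 6232) {q : ℕ} (hq : q.Prime) (hv' : Vx G q) (hab : m ∣ 2 ^ 4 * 3 ^ 3)
    (h1 : ∀ d ∈ (p * m).divisors, d % p = 1 → d = 1 ∨ comp d ∨ d = q ^ 3)
    (h2 : ¬ q ^ 4 ∣ p * m) :
    ∃ M : Subgroup (G ⧸ pPrimeCore p G), M.Normal ∧ IsSimpleGroup M ∧ ¬ IsMulCommutative M ∧
      p ∣ Nat.card M ∧ Nat.card M ∣ p * m ∧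
      Nat.card M ∈ OL := by
  rcases reduce hm hpm hv (hm ▸ hle) with ⟨-, h⟩ | h
  · have := h _ _ hab
    obtain ⟨P⟩ : Nonempty (Sylow p G) := inferInstance
    have hP : Nat.card P = p := by
      simpa using card_sylow_eq_of_factor P (a := 1) (by rw [hm, pow_one]) hpm
    refine absurd hv' (exists_not_vx P hP (not_normal_of_vx P hP hv) fun r t hr ht h3 h4 => ?_)
    rw [hm] at h3 ⊢
    rcases h1 _ (Nat.mem_divisors.2 ⟨h3, hm ▸ Nat.card_pos.ne'⟩) h4 with h5 | h5 | h5
    · exact absurd ((Nat.pow_eq_one.1 h5).resolve_right ht.ne') hr.ne_one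
    · exact absurd h5 (not_comp_pow hr)
    · obtain rfl : r = q := (Nat.prime_dvd_prime_iff_eq hr hq).1
        (hr.dvd_of_dvd_pow (h5 ▸ dvd_pow_self r ht.ne'))
      obtain rfl := Nat.pow_right_injective hr.two_le h5
      exact ⟨rfl, h2⟩
  · exact hm ▸ h

omit hp in
theorem simple_168 (h : Nat.card G = 168) (h7 : Vx G 7) (h2 : Vx G 2) : IsSimpleGroup G := by
  have := Fact.mk (show Nat.Prime 7 by norm_num)
  obtain ⟨M, -, _, -, h3, h4, h5⟩ := reduce_solv (p := 7) (m := 24) h (by norm_num) h7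
    (by norm_num) Nat.prime_two h2 (by norm_num) (by decide +kernel) (by norm_num)
  exact simple_of_card (M := M) (h ▸ (by decide : ∀ s ∈ OL, 7 ∣ s → s ∣ 7 * 24 → s = 168) _ h5 h3 h4)

omit hp in
theorem simple_5616 (h : Nat.card G = 5616) (h7 : Vx G 13) (h2 : Vx G 3) : IsSimpleGroup G := by
  have := Fact.mk (show Nat.Prime 13 by norm_num)
  obtain ⟨M, -, _, -, h3, h4, h5⟩ := reduce_solv (p := 13) (m := 432) h (by norm_num) h7
    (by norm_num) Nat.prime_three h2 (by norm_num) (by decide +kernel) (by norm_num)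
  exact simple_of_card (M := M)
    (h ▸ (by decide : ∀ s ∈ OL, 13 ∣ s → s ∣ 13 * 432 → s = 5616) _ h5 h3 h4)

omit hp in
theorem simple_504 (h : Nat.card G = 504) (h7 : Vx G 7) (h2 : Vx G 2) (h6 : ¬ Vx G 6) :
    IsSimpleGroup G := by
  have := Fact.mk (show Nat.Prime 7 by norm_num)
  obtain ⟨M, _, _, hM, h3, h4, h5⟩ := reduce_solv (p := 7) (m := 72) h (by norm_num) h7
    (by norm_num) Nat.prime_two h2 (by norm_num) (by decide +kernel) (by norm_num)
  have h8 : Nat.card M ≠ 168 := fun h8 => h6 (vx_of_section (M := M) (by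
    obtain ⟨χ, hχ⟩ := exists_deg_of_surv (p := 7) (a := 6) hM h3 (by rw [h8]; decide +kernel)
    exact ⟨χ, hχ.symm.dvd⟩))
  exact simple_of_card (M := M)
    (h ▸ (by decide : ∀ s ∈ OL, 7 ∣ s → s ∣ 7 * 72 → s ≠ 168 → s = 504) _ h5 h3 h4 h8)

omit hp in
theorem simple_2520 (h : Nat.card G = 2520) (h5 : Vx G 5) (h7 : Vx G 7) : IsSimpleGroup G := by
  have := Fact.mk (show Nat.Prime 5 by norm_num)
  have := Fact.mk (show Nat.Prime 7 by norm_num)
  obtain ⟨P⟩ : Nonempty (Sylow 5 G) := inferInstance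
  obtain ⟨R⟩ : Nonempty (Sylow 7 G) := inferInstance
  have hP := not_normal_of_vx P (card_sylow_eq_of_factor P (a := 1) (m := 504) h (by norm_num)) h5
  have hR := not_normal_of_vx R (card_sylow_eq_of_factor R (a := 1) (m := 360) h (by norm_num)) h7
  rcases reduce (p := 5) (m := 504) h (by norm_num) h5 (by omega) with
    ⟨h1, -⟩ | ⟨M, hM, _, -, h3, h4, h6⟩
  · exact absurd h1 (by decide +kernel)
  refine simple_of_card (M := M) ?_
  by_contra h8
  rw [h] at h4 h8
  replace h6 := (by decide : ∀ s ∈ OL, 5 ∣ s → s ∣ 2520 → s ≠ 2520 → s = 60 ∨ s = 360) _ h6 h3 h4 h8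
  set K := pPrimeCore 5 G
  set L := M.comap (QuotientGroup.mk' K) with hL
  have hi : L.index = M.index := index_comap_of_surjective _ (QuotientGroup.mk'_surjective K)
  have e1 := M.card_mul_index
  have e2 := card_eq_card_quotient_mul_card_subgroup K
  have e3 := L.card_mul_index
  rw [← e1, h] at e2
  rw [hi, h] at e3
  have e4 : M.index * Nat.card K ∣ 42 := by
    rcases h6 with h9 | h9 <;> rw [h9, mul_assoc] at e2
    · exact ⟨1, by omega⟩
    · exact ⟨6, by omega⟩
  by_cases h9 : 7 ∣ Nat.card K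
  · obtain ⟨k, hk⟩ := h9
    have h10 : k ∣ 6 := Nat.dvd_of_mul_dvd_mul_left (k := 7) (by norm_num)
      (hk ▸ (Dvd.intro_left _ rfl).trans e4)
    have h11 := Nat.le_of_dvd (by norm_num) h10
    have h12 := (card_sylow_dvd_of_factor (G := K) (p := 7) (a := 1) hk
      fun h' => absurd (h'.trans h10) (by norm_num)).trans h10
    have h13 := card_sylow_mod (G := K) (p := 7)
    have h14 := Nat.le_of_dvd (by norm_num) h12
    refine hR (sylow_normal_of_le_normal R (N := K) (le_of_normal_of_not_dvd_index R.isPGroup' ?_)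
      (by omega))
    have := K.card_mul_index
    rw [h, hk] at this
    intro ⟨j, hj⟩
    rw [hj] at this
    have : 7 * (k * j) = 360 := by nlinarith
    omega
  have hM7 : ¬ 7 ∣ Nat.card M := by omega
  have h10 : 7 ∣ M.index := by
    have : 7 ∣ Nat.card M * M.index * Nat.card K := e2 ▸ by norm_num
    simp only [Nat.Prime.dvd_mul (show Nat.Prime 7 by norm_num)] at this
    tauto
  have hL7 : Nat.card L ∣ 360 := by
    obtain ⟨j, hj⟩ := h10
    exact ⟨j, by rw [hj] at e3; nlinarith⟩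
  have hL7' : ¬ 7 ∣ Nat.card L := fun h' => absurd (h'.trans hL7) (by norm_num)
  have hi42 : L.index ∣ 42 := hi ▸ (Dvd.intro _ rfl).trans e4
  have hPL : (P : Subgroup G) ≤ L := le_of_normal_of_not_dvd_index P.isPGroup'
    fun h' => absurd (h'.trans hi42) (by norm_num)
  have hRL : (R : Subgroup G) ≤ normalizer (L : Set G) := by rw [normalizer_eq_top]; exact le_top
  set C := (centralizer ((R : Subgroup G) : Set G)).subgroupOf L with hC
  have hCi : C.index = 8 := by
    have a1 : C.index % 7 = 1 := CL.SN.relIndex_centralizer_modEq_one R.isPGroup' hRL hL7'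
    have a2 : C.index ∣ 360 := C.index_dvd_card.trans hL7
    have a3 : ∀ q, q.Prime → q ∣ C.index → q = 2 := by
      intro q hq hq'
      obtain ⟨t, ht, b1, b2⟩ := exists_pow_of_dvd_relIndex R.isPGroup' hRL hL7' hq hq'
      rcases (by decide +kernel : ∀ d ∈ Nat.divisors 360, d % 7 = 1 → d = 1 ∨ comp d ∨ d = 2 ^ 3) _
        (Nat.mem_divisors.2 ⟨b1.trans hL7, by norm_num⟩) b2 with b3 | b3 | b3
      · exact absurd ((Nat.pow_eq_one.1 b3).resolve_right ht.ne') hq.ne_one
      · exact absurd b3 (not_comp_pow hq)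
      · exact (Nat.prime_dvd_prime_iff_eq hq Nat.prime_two).1
          (hq.dvd_of_dvd_pow (b3 ▸ dvd_pow_self q ht.ne'))
    have a4 : C.index ≠ 1 := by
      intro a4
      have b1 := CL.SN.card_sylow_quotient_of_le_normalizer R L
        ((relIndex_eq_one.1 a4).trans (centralizer_le_normalizer' _))
      have b2 := card_sylow_mod (G := G ⧸ L) (p := 7)
      have b3 := (CL.SN.card_sylow_dvd_card (G := G ⧸ L) (p := 7)).trans hi42
      have b4 := Nat.le_of_dvd (by norm_num) b3
      refine hR (normal_of_card_sylow_eq_one ?_ R)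
      rw [← b1]
      generalize Nat.card (Sylow 7 (G ⧸ L)) = n at *
      interval_cases n <;> omega
    have a5 : ¬ 3 ∣ C.index := fun h' => absurd (a3 3 (by norm_num) h') (by norm_num)
    have a6 : ¬ 5 ∣ C.index := fun h' => absurd (a3 5 (by norm_num) h') (by norm_num)
    exact (by decide +kernel : ∀ d ∈ Nat.divisors 360, d % 7 = 1 → d ≠ 1 → ¬ 3 ∣ d → ¬ 5 ∣ d →
      d = 8) _ (Nat.mem_divisors.2 ⟨a2, by norm_num⟩) a1 a4 a5 a6
  have hCc : Nat.card C ∣ 45 := Nat.dvd_of_mul_dvd_mul_right (k := 8) (by norm_num)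
    ((hCi ▸ C.card_mul_index).dvd.trans hL7)
  obtain ⟨Q⟩ : Nonempty (Sylow 5 C) := inferInstance
  obtain ⟨Q', hQ'⟩ := (Q.isPGroup'.map C.subtype).exists_le_sylow
  have a1 : Nat.card (Sylow 5 C) = 1 := by
    have b2 := card_sylow_mod (G := C) (p := 5)
    have b3 := (CL.SN.card_sylow_dvd_card (G := C) (p := 5)).trans hCc
    have b4 := Nat.le_of_dvd (by norm_num) b3
    generalize Nat.card (Sylow 5 C) = n at *
    interval_cases n <;> omega
  have a2 : (Q' : Subgroup L) = (Q : Subgroup C).map C.subtype := by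
    refine (eq_of_le_of_card_ge hQ' ?_).symm
    have b1 := C.index_map_subtype Q
    obtain ⟨k, hk⟩ := Q'.isPGroup'.exists_card_eq
    refine Nat.le_of_dvd Nat.card_pos ((Nat.Coprime.dvd_mul_right (n :=
      ((Q : Subgroup C).map C.subtype).index) ?_).1 ?_)
    · rw [hk, b1, hCi]
      exact Nat.Coprime.pow_left _ (Nat.Coprime.mul_right ((Nat.Prime.coprime_iff_not_dvd
        (by norm_num)).2 Q.not_dvd_index) (by norm_num))
    · rw [card_mul_index]; exact card_subgroup_dvd_card _
  have a3 : C ≤ normalizer ((Q' : Subgroup L) : Set L) :=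
    le_normalizer_of_card_sylow_eq_one Q' (a2 ▸ map_subtype_le _) a1
  have a4 := index_dvd_of_le a3
  rw [← card_sylow_eq_index, hCi] at a4
  have a5 := card_sylow_mod (G := L) (p := 5)
  have a6 := Nat.le_of_dvd (by norm_num) a4
  refine hP (sylow_normal_of_le_normal P hPL ?_)
  generalize Nat.card (Sylow 5 L) = n at *
  interval_cases n <;> omega

/-- with `p + 1` Sylow subgroups of order `p` and trivial `p'`-core, `P` is self-centralizing -/
theorem centralizer_le_of_card_sylow (P : Sylow p G) (hP : Nat.card P = p)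
    (hn : Nat.card (Sylow p G) = p + 1) (hc : pPrimeCore p G = ⊥) :
    centralizer ((P : Subgroup G) : Set G) ≤ P := by
  classical
  obtain ⟨R, hR⟩ : ∃ R : Sylow p G, R ≠ P := by
    have : Nontrivial (Sylow p G) := Finite.one_lt_card_iff_nontrivial.1
      (by have := hp.out.pos; omega)
    exact exists_ne P
  have hfix : ∀ x ∈ (P : Subgroup G), x • P = P := fun x hx => smul_sylow_eq_iff.2 (le_normalizer hx)
  have horb : MulAction.orbit (P : Subgroup G) R = {P}ᶜ := by
    refine Set.eq_of_subset_of_ncard_le ?_ ?_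
    · rintro _ ⟨x, rfl⟩ h
      exact hR (MulAction.injective (x : G) (h.trans (hfix x x.2).symm))
    · rw [CL.SN.ncard_orbit_sylow, CL.SN.normalizer_relIndex_eq P.isPGroup', ← inf_relIndex_right,
        inf_comm, sylow_inf_eq_bot_of_card_prime hP hR, relIndex_bot_left, hP, Set.ncard_compl,
        Set.ncard_singleton, hn, Nat.add_sub_cancel]
  have hker : (MulAction.toPermHom G (Sylow p G)).ker = ⊥ := by
    rw [← le_bot_iff, ← hc]
    refine le_pPrimeCore ((Nat.Prime.coprime_iff_not_dvd hp.out).2 fun h => ?_).symm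
    obtain ⟨y, hy, h1⟩ := exists_mem_orderOf_eq_prime _ p h
    have h2 : ∀ Q : Sylow p G, y ∈ (Q : Subgroup G) := fun Q =>
      mem_sylow_of_mem_normalizer Q (k := 1) (by rw [h1, pow_one])
        (smul_sylow_eq_iff.1 (congrArg (· Q) (MonoidHom.mem_ker.1 hy)))
    have : y ∈ (P : Subgroup G) ⊓ R := ⟨h2 P, h2 R⟩
    rw [sylow_inf_eq_bot_of_card_prime hP hR, mem_bot] at this
    rw [this, orderOf_one] at h1
    exact hp.out.ne_one h1.symm
  intro c hcP
  have hcf : c • P = P := smul_sylow_eq_iff.2 (centralizer_le_normalizer' _ hcP)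
  obtain ⟨⟨x, hx⟩, h1⟩ : c • R ∈ MulAction.orbit (P : Subgroup G) R := by
    rw [horb]
    exact fun h => hR (MulAction.injective c (h.trans hcf.symm))
  have h2 : x⁻¹ * c ∈ (MulAction.toPermHom G (Sylow p G)).ker := by
    refine Equiv.ext fun Q => (?_ : (x⁻¹ * c) • Q = Q)
    by_cases hQ : Q = P
    · rw [hQ, mul_smul, hcf, hfix _ (inv_mem hx)]
    · obtain ⟨⟨y, hy⟩, rfl⟩ : Q ∈ MulAction.orbit (P : Subgroup G) R := horb ▸ hQ
      change (x⁻¹ * c) • y • R = y • R
      replace h1 : x • R = c • R := h1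
      rw [← mul_smul, mul_assoc, ← hcP y hy, ← mul_assoc, mul_smul, ← h1, ← mul_smul, mul_assoc,
        comm_of_card hP y hy x hx, inv_mul_cancel_left]
  rw [hker, mem_bot, inv_mul_eq_one] at h2
  exact h2 ▸ hx

omit hp in
/-- an overgroup of a simple group of order `60` with trivial `5'`-core -/
theorem vx_six {M : Subgroup G} [M.Normal] [IsSimpleGroup M] (hM : Nat.card M = 60)
    (hi : M.index ∣ 6) (hi1 : M.index ≠ 1) (hc : pPrimeCore 5 G = ⊥) : Vx G 6 := by
  classical
  have := Fact.mk (show Nat.Prime 5 by norm_num)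
  have hM' := not_comm_of_not_prime (G := M) (by rw [hM]; norm_num)
  have hG := M.card_mul_index
  rw [hM] at hG
  have h5 : ¬ 5 ∣ M.index := fun h => absurd (h.trans hi) (by norm_num)
  obtain ⟨P⟩ : Nonempty (Sylow 5 G) := inferInstance
  have hP : Nat.card P = 5 := card_sylow_eq_of_factor P (a := 1) (m := 12 * M.index) (by omega)
    (by omega)
  have hPM : (P : Subgroup G) ≤ M := le_of_normal_of_not_dvd_index P.isPGroup' h5
  have hn : Nat.card (Sylow 5 G) = 6 := by
    have h1 : Nat.card (Sylow 5 M) = 6 := by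
      have b1 := card_sylow_dvd_of_factor (G := M) (p := 5) (a := 1) (m := 12) hM (by norm_num)
      have b2 := card_sylow_mod (G := M) (p := 5)
      have b3 := one_lt_card_sylow (G := M) (p := 5) hM' (by rw [hM]; norm_num)
      have b4 := Nat.le_of_dvd (by norm_num) b1
      generalize Nat.card (Sylow 5 M) = n at *
      interval_cases n <;> omega
    have h3 : normalizer ((P : Subgroup G) : Set G) ⊔ M = ⊤ := Sylow.normalizer_sup_eq_top' P hPM
    rw [card_sylow_eq_index P, CL.SN.index_eq_index_sup_mul _ M, h3, index_top, one_mul, ← h1,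
      card_sylow_eq_index (P.subtype hPM), Sylow.coe_subtype, ← subgroupOf_normalizer_eq hPM]
    rfl
  obtain ⟨x, hxP, hx⟩ := exists_mem_orderOf_eq_prime (P : Subgroup G) 5 hP.symm.dvd
  have hC : Nat.card (centralizer ({x} : Set G)) = 5 := by
    rw [card_centralizer_eq P hP hx, le_antisymm (centralizer_le_of_card_sylow P hP hn hc)
      fun a ha b hb => comm_of_card hP b hb a ha, hP]
  have h1 := card_centralizer_mul_card_conj x
  have h2 := card_orderOf_eq_prime P hP
  let f : {y : G // IsConj x y} → {y : G // orderOf y = 5} := fun y =>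
    ⟨y.1, (orderOf_eq_of_isConj y.2).trans hx⟩
  have hf : Function.Injective f := fun a b h => Subtype.ext (congrArg Subtype.val h :)
  have h3 := Nat.card_le_card_of_injective f hf
  rw [hC] at h1
  rw [hn] at h2
  have h4 : M.index = 2 := by have := M.index_ne_zero_of_finite; omega
  have hconj : ∀ y, orderOf y = 5 → IsConj x y := fun y hy => by
    obtain ⟨z, hz⟩ := (hf.bijective_of_nat_card_le (by omega)).2 ⟨y, hy⟩
    exact (show z.1 = y from congrArg Subtype.val hz) ▸ z.2
  obtain ⟨φ, hφ⟩ := exists_deg_of_surv (G := M) (p := 5) (a := 3) hM' (by rw [hM]; norm_num)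
    (by rw [hM]; decide +kernel)
  have := Fintype.ofFinite M
  obtain ⟨ψ, hψ, h6⟩ := φ.2.exists_over
  refine ⟨⟨ψ, hψ⟩, by_contra fun h7 => ?_⟩
  have h8 : charDegree ψ = 3 := by
    have b1 := hφ ▸ CL.Char.degree_dvd_of_under hψ φ.2 h6 hψ.apply_one_eq_charDegree
      φ.2.apply_one_eq_charDegree
    have b2 := hψ.charDegree_sq_le_index (Z := ⊥) bot_le
    have b3 := hψ.charDegree_dvd_index_of_le (Z := ⊥) bot_le
    rw [index_bot, ← hG, h4] at b2 b3
    change ¬ 6 ∣ charDegree ψ at h7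
    have : charDegree ψ ≤ 10 := by nlinarith
    generalize charDegree ψ = n at *
    interval_cases n <;> omega
  have hval : ∀ y, orderOf y = 5 → ψ y = ψ x := fun y hy => by
    obtain ⟨c, rfl⟩ := isConj_iff.1 (hconj y hy)
    exact hψ.isClassFunction _ _
  obtain ⟨a, ha⟩ := hψ.isGen.exists_int_of_pow (g := x) (n := 5)
    (by norm_num) (hx ▸ pow_orderOf_eq_one x) fun k hk => hval _ (by
      rw [← hx] at hk ⊢; exact hk.symm.orderOf_pow)
  obtain ⟨d, hd, -⟩ := exists_fixDim hψ.isCharacter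
  have := Fintype.ofFinite P
  have h9 := hd P
  rw [← Finset.add_sum_erase _ _ (Finset.mem_univ 1), Finset.sum_congr rfl (g := fun _ => (a : ℂ))
    (fun y hy => (hval _ (orderOf_eq_of_card_prime hP y.2 (by simpa using hy))).trans ha),
    Finset.sum_const, Finset.card_erase_of_mem (Finset.mem_univ _), Finset.card_univ,
    ← Nat.card_eq_fintype_card, hP, OneMemClass.coe_one, hψ.apply_one_eq_charDegree, h8] at h9
  have h10 : 3 + 4 * a = 5 * d P := by exact_mod_cast (by simpa using h9 : (3 + 4 * a : ℂ) = 5 * d P)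
  have h11 := hψ.isCharacter.norm_le x
  rw [ha, h8, Complex.norm_intCast] at h11
  have h12 : |a| ≤ 3 := by exact_mod_cast h11
  obtain rfl : a = 3 := by have := abs_le.1 h12; omega
  have h13 : (⟨x, hPM hxP⟩ : M) ∈ CL.Char.charKer φ.1 :=
    (hψ.isCharacter.res M).charKer_le_of_inner_ne_zero φ.2 h6 ((hψ.isCharacter.res M).mem_charKer.2
      (by simp [ha, hψ.apply_one_eq_charDegree, h8]))
  rcases φ.2.charKer_normal.eq_bot_or_eq_top with h14 | h14
  · rw [h14, mem_bot, Subtype.ext_iff] at h13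
    rw [show x = 1 from h13] at hx
    simp at hx
  · have := φ.2.charDegree_sq_le_index (CL.Char.charKer_le_charCenter _)
    rw [h14, hφ] at this
    simp at this

omit hp in
theorem simple_360 (h : Nat.card G = 360) (h5 : Vx G 10) (h6 : ¬ Vx G 6) : IsSimpleGroup G := by
  have := Fact.mk (show Nat.Prime 5 by norm_num)
  obtain ⟨χ, hχ⟩ := h5
  rcases reduce (p := 5) (m := 72) h (by norm_num) ⟨χ, Dvd.dvd.trans (by norm_num) hχ⟩
    (by omega) with ⟨h1, -⟩ | ⟨M, hM, _, hM', h3, h4, h7⟩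
  · exact absurd h1 (by decide +kernel)
  refine simple_of_card (M := M) ?_
  by_contra h8
  rw [h] at h4 h8
  replace h7 := (by decide : ∀ s ∈ OL, 5 ∣ s → s ∣ 360 → s ≠ 360 → s = 60) _ h7 h3 h4 h8
  set K := pPrimeCore 5 G
  have e1 := M.card_mul_index
  have e2 := card_eq_card_quotient_mul_card_subgroup K
  rw [← e1, h, h7, mul_assoc] at e2
  have hs := QuotientGroup.mk'_surjective K
  by_cases hi : M.index = 1
  swap
  · obtain ⟨ψ, hψ⟩ := vx_six h7 ⟨Nat.card K, by omega⟩ hi (pPrimeCore_quotient_pPrimeCore 5 G)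
    exact h6 ⟨⟨_, (CL.Char.isIrrCharacter_comp_surjective_iff _ hs).2 ψ.2⟩,
      by rwa [CL.Char.charDegree_comp]⟩
  rw [hi] at e1 e2
  have hK : Nat.card K = 6 := by omega
  obtain rfl := index_eq_one.1 hi
  have hsim : IsSimpleGroup (G ⧸ K) := topEquiv.symm.isSimpleGroup
  obtain ⟨P⟩ : Nonempty (Sylow 5 G) := inferInstance
  have hP : Nat.card P = 5 := card_sylow_eq_of_factor P (a := 1) (m := 72) h (by norm_num)
  set C := centralizer (K : Set G)
  have hPC : (P : Subgroup G) ≤ C := le_centralizer_iff.1 (le_centralizer_of_comp P.isPGroup'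
    (by rw [normalizer_eq_top]; exact le_top) (by omega) (n := 6) (by norm_num) hK.dvd (by decide))
  have hC : C.map (QuotientGroup.mk' K) = ⊤ := by
    refine (Normal.map inferInstance _ hs).eq_bot_or_eq_top.resolve_left fun h' => ?_
    rw [Subgroup.map_eq_bot_iff, QuotientGroup.ker_mk'] at h'
    have := card_dvd_of_le (hPC.trans h')
    rw [hP, hK] at this
    omega
  have hCK : C ⊔ K = ⊤ := by
    rw [← QuotientGroup.ker_mk' K, ← comap_map_eq, hC, comap_top]
  by_cases hc : C = ⊤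
  · have b1 : K ≤ center G := fun a ha => mem_center_iff.2 fun g => ((hc.ge (mem_top g)) a ha).symm
    have b2 := χ.2.charDegree_sq_le_index (b1.trans χ.2.center_le_charCenter)
    have b3 := K.card_mul_index
    have b4 := Nat.le_of_dvd χ.2.charDegree_pos hχ
    nlinarith
  have hs' : Function.Surjective ((QuotientGroup.mk' C).comp K.subtype) := by
    intro y
    obtain ⟨g, rfl⟩ := QuotientGroup.mk'_surjective C y
    obtain ⟨k, hk, c, hc, rfl⟩ := mem_sup_of_normal_right.1 ((sup_comm C K ▸ hCK).ge (mem_top g))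
    exact ⟨⟨k, hk⟩, by simp [(QuotientGroup.eq_one_iff _).2 hc]⟩
  have hd : Nat.card (G ⧸ C) ∣ 6 := hK ▸ card_dvd_of_surjective _ hs'
  have hq : ¬ ∀ a b : G ⧸ C, a * b = b * a := by
    intro hq
    have := IsZGroup.of_squarefree ((by decide +kernel : Squarefree 6).squarefree_of_dvd hd)
    have : Group.IsNilpotent (G ⧸ C) := ⟨1, by
      rw [Subgroup.upperCentralSeries_one, eq_top_iff]
      exact fun a _ => mem_center_iff.2 fun g => hq g a⟩
    have := ((QuotientGroup.mk' C).comp K.subtype).isMulCommutative_of_isCyclic_of_ker_le_center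
      fun a ha => mem_center_iff.2 fun g => Subtype.ext ((QuotientGroup.eq_one_iff _).1 ha g g.2)
    exact hc (hCK ▸ (sup_eq_left.2 (le_centralizer K)).symm)
  obtain ⟨β, hβ, hβ1⟩ : ∃ β, IsIrrCharacter (G ⧸ C) β ∧ charDegree β ≠ 1 := by
    by_contra! h'
    exact hq (CL.Ord.mul_comm_of_forall_degree h')
  have hβ2 : charDegree β = 2 := by
    have b1 := hβ.charDegree_sq_le_index (Z := ⊥) bot_le
    have b2 := Nat.le_of_dvd (by norm_num) hd
    have b3 := hβ.charDegree_pos
    rw [index_bot] at b1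
    have : charDegree β ≤ 2 := by nlinarith
    omega
  obtain ⟨φ, hφ⟩ := exists_deg_of_surv (p := 5) (a := 3) hM' h3 (by rw [h7]; decide +kernel)
  let f : G →* (⊤ : Subgroup (G ⧸ K)) := topEquiv.symm.toMonoidHom.comp (QuotientGroup.mk' K)
  have hf : Function.Surjective (f.comp C.subtype) := fun y => by
    obtain ⟨c, hc, h'⟩ := hC.ge (mem_top y.1)
    exact ⟨⟨c, hc⟩, Subtype.ext h'⟩
  have hβ' := (CL.Char.isIrrCharacter_comp_surjective_iff _ (QuotientGroup.mk'_surjective C)).2 hβ
  have hφ' := (CL.Char.isIrrCharacter_comp_surjective_iff f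
    (Function.Surjective.of_comp (g := C.subtype) hf)).2 φ.2
  refine h6 ⟨⟨_, CL.Char.gallagher_irr (N := C) hφ'.isCharacter
    ((CL.Char.isIrrCharacter_comp_surjective_iff _ hf).2 φ.2) hβ' fun n hn => ?_⟩, ?_⟩
  · rw [map_one, QuotientGroup.mk'_apply, (QuotientGroup.eq_one_iff _).2 hn]
  · rw [CL.Ord.charDegree_mul hβ'.isCharacter hφ'.isCharacter, CL.Char.charDegree_comp,
      CL.Char.charDegree_comp, hβ2, hφ]

end CL.DR
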