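import Mathlib
import Cfsg.Agent.INV.J1WeakA
import Cfsg.Agent.INV.J1Uniq
import Cfsg.Agent.INV.CenG
import Cfsg.Agent.INV.ZStar
import Cfsg.Agent.FGS.SchurHopf
import Cfsg.Agent.SOLV.Core

/-!
A 2-central involution whose weak closure in its centraliser is `2 × A₅` has normal closure `J₁`.
-/

namespace CL.J1W

open Subgroup CL.J1U CL.TC CL.A4C

variable {G : Type*} [Group G]

theorem no_odd [Finite G] (h1 : Nat.card G = 175560) (h7 : ∀ x : G, orderOf x = 7 →
    Nat.card (normalizer ((zpowers x : Subgroup G) : Set G)) = 42) (E : Subgroup G)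
    (h2 : ¬ 2 ∣ Nat.card E) (h3 : 1463 ∣ Nat.card E) : False := by
  haveI : Fact (Nat.Prime 7) := ⟨by norm_num⟩
  obtain ⟨x, hx⟩ := exists_prime_orderOf_dvd_card' (G := E) 7 (Dvd.dvd.trans (by norm_num) h3)
  have h4 : Nat.card E ∣ 175560 := h1 ▸ card_subgroup_dvd_card E
  have h5 : Nat.card (zpowers x) = 7 ^ 1 := by rw [Nat.card_zpowers, hx, pow_one]
  let P : Sylow 7 E := (IsPGroup.of_card h5).toSylow fun h => by
    rw [← (zpowers x).card_mul_index, h5] at h4
    exact absurd ((Nat.mul_dvd_mul_left _ h).trans h4) (by norm_num)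
  have h6 := card_sylow_modEq_one 7 E
  rw [P.card_eq_index_normalizer] at h6
  have h8 : Nat.card (normalizer ((P : Subgroup E) : Set E)) ∣ 42 := by
    rw [← h7 x (by rw [Subgroup.orderOf_coe, hx]), ← card_map_of_injective E.subtype_injective]
    refine card_dvd_of_le ((le_normalizer_map _).trans_eq ?_)
    rw [show (P : Subgroup E) = zpowers x from rfl, MonoidHom.map_zpowers]; rfl
  have h9 := (normalizer ((P : Subgroup E) : Set E)).card_mul_index
  obtain ⟨c, hc⟩ := h3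
  rw [hc] at h2 h4 h9
  have := (by decide : ∀ c ∈ Nat.divisors 120, ∀ n ∈ Nat.divisors 42, ¬ 2 ∣ 1463 * c →
    n ∣ 1463 * c → 1463 * c / n % 7 ≠ 1) c
    (Nat.mem_divisors.mpr ⟨Nat.dvd_of_mul_dvd_mul_left (by norm_num) h4, by norm_num⟩) _
    (Nat.mem_divisors.mpr ⟨h8, by norm_num⟩) h2 (Dvd.intro _ h9)
  rw [← h9, Nat.mul_div_cancel_left _ Nat.card_pos] at this
  exact this h6

/-- connectedness in the commuting graph of the class of `t` -/
def R (t : G) : G → G → Prop :=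
  Relation.ReflTransGen fun a b => a ∈ Jc t ∧ b ∈ Jc t ∧ b * a = a * b

section
variable {t a b c g h : G}

theorem R.rfl : R t a a := Relation.ReflTransGen.refl

theorem R.one (ha : a ∈ Jc t) (hb : b ∈ Jc t) (e : b * a = a * b) : R t a b :=
  Relation.ReflTransGen.single ⟨ha, hb, e⟩

theorem R.tr (h1 : R t a b) (h2 : R t b c) : R t a c := Relation.ReflTransGen.trans h1 h2

theorem R.sy (h1 : R t a b) : R t b a := by
  induction h1 with
  | refl => exact R.rfl
  | tail _ h ih => exact (R.one h.2.1 h.1 h.2.2.symm).tr ih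

theorem R.mem (h1 : R t a b) (ha : a ∈ Jc t) : b ∈ Jc t := by
  induction h1 with
  | refl => exact ha
  | tail _ h _ => exact h.2.1

theorem R.conj (g : G) (h1 : R t a b) : R t (g * a * g⁻¹) (g * b * g⁻¹) := by
  induction h1 with
  | refl => exact R.rfl
  | tail _ h ih => exact ih.tr (R.one (conj_mem_Jc g h.1) (conj_mem_Jc g h.2.1)
      (by simpa using congrArg (MulAut.conj g) h.2.2))

/-- `g` maps the component of `a` to the component of `b` -/
def M (t g a b : G) : Prop := R t b (g * a * g⁻¹)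

theorem M.mul (h1 : M t h a b) (h2 : M t g b c) : M t (g * h) a c :=
  R.tr h2 (by simpa [mul_assoc] using R.conj g h1)

theorem M.inv (h1 : M t g a b) : M t g⁻¹ b a := by
  simpa [mul_assoc, M] using R.conj g⁻¹ (R.sy h1)

theorem M.of_comm (e : g * a = a * g) : M t g a a := by
  rw [M, e, mul_inv_cancel_right]; exact R.rfl

end

/-- the stabiliser of the component of `s` -/
def Hs (t s : G) : Subgroup G where
  carrier := {g | M t g s s}
  one_mem' := M.of_comm (by simp)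
  mul_mem' h1 h2 := M.mul h2 h1
  inv_mem' := M.inv

/-- the kernel of the action on the component -/
def Y (t : G) : Subgroup (Hs t t) := (centralizer {s | R t t s}).subgroupOf (Hs t t)

theorem mem_Y {t : G} {y : Hs t t} : y ∈ Y t ↔ ∀ s, R t t s → s * y = y * s :=
  mem_subgroupOf.trans mem_centralizer_iff

instance (t : G) : (Y t).Normal := ⟨fun y hy g => mem_Y.mpr fun s hs => by
  have := mem_Y.mp hy _ (R.tr (inv_mem g.2) (R.conj (g : G)⁻¹ hs))
  simpa [mul_assoc] using congrArg (MulAut.conj (g : G)) this⟩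

/-- the image of `t` -/
def tb (t : G) : Hs t t ⧸ Y t := QuotientGroup.mk ⟨t, M.of_comm rfl⟩

namespace HW

variable [Finite G] {t : G} (H : HW t)
include H

theorem cent {y s : G} (h : ∀ r ∈ Jc t, r * t = t * r → y ∈ D t r) (hs : R t t s) :
    ∀ r ∈ Jc t, r * s = s * r → y ∈ D t r := by
  induction hs with
  | refl => exact h
  | @tail a b _ e ih =>
    by_cases ab : a = b
    · exact ab ▸ ih
    have p := H.mul_mem_Jc e.2.1 e.1 e.2.2.symm ab
    exact fun r hr => H.spread e.2.1 e.1 ab e.2.2.symm (ih b e.2.1 e.2.2) (ih a e.1 rfl)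
      (ih _ p (by rw [mul_assoc, e.2.2])) hr

theorem notY {s : G} (hs : R t t s) (h : ∀ r, R t t r → r * s = s * r) : False := by
  have h0 := hs.mem (self_mem_Jc t)
  obtain ⟨f, C⟩ := H.wcs h0
  have f0 := C.fp (p := p0) (by decide) (by decide)
  have h1 := H.allJ h0 (C.fW p0) f0.1 f0.2
  obtain ⟨g, E⟩ := H.wcs h1
  have h2 : W t (f p0) ≤ centralizer {s} := by
    rw [W, closure_le]
    exact fun x hx => mem_centralizer_singleton_iff.mpr
      (h x ((hs.tr (R.one h0 h1 (C.comm _))).tr (R.one h1 hx.1 hx.2)))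
  rcases E.eq_of_central (mem_W h0 (C.comm _).symm)
    fun w hw => (mem_centralizer_singleton_iff.mp (h2 hw)).symm with e | e
  · exact H.ne_one h0 e
  · exact C.ne _ e.symm

theorem YW {y : Hs t t} (hy : y ∈ Y t) (hW : (y : G) ∈ W t t) : y = 1 := by
  obtain ⟨f, C⟩ := H.wc
  have h2 : W t t ≤ centralizer {(y : G)} := by
    rw [W, closure_le]
    exact fun x hx => mem_centralizer_singleton_iff.mpr
      (mem_Y.mp hy x (R.one (self_mem_Jc t) hx.1 hx.2))
  rcases C.eq_of_central hW fun w hw => (mem_centralizer_singleton_iff.mp (h2 hw)).symm with e | e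
  · exact Subtype.ext e
  · exact (H.notY R.rfl fun r hr => e ▸ mem_Y.mp hy r hr).elim

theorem comm_of_mk {h : Hs t t} (e : QuotientGroup.mk h * tb t = tb t * QuotientGroup.mk h) :
    h * t = t * h := by
  by_contra ne
  rw [← mul_inv_eq_iff_eq_mul] at e ne
  have ht := self_mem_Jc t
  have h1 := mem_Y.mp (QuotientGroup.eq.mp (show (QuotientGroup.mk (h * ⟨t, M.of_comm rfl⟩ * h⁻¹) :
    Hs t t ⧸ Y t) = QuotientGroup.mk ⟨t, M.of_comm rfl⟩ from e))
  have h2 := conj_mem_Jc (h : G) ht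
  simp only [Subgroup.coe_mul, Subgroup.coe_inv] at h1
  rw [inv_eq_of_mul_eq_one_right (H.sq h2)] at h1
  have h3 := h1 t R.rfl
  rw [← mul_assoc, mul_left_inj] at h3
  exact H.notY (R.one ht (H.mul_mem_Jc ht h2 h3.symm ne) (h1 t R.rfl).symm) h1

theorem cen : ∃ f : A5 →* Hs t t ⧸ Y t, CenG.Cen (tb t) f ∧ IsConj (tb t) (f p0) ∧
    IsConj (tb t) (tb t * f p0) := by
  obtain ⟨f, C⟩ := H.wc
  have ht := self_mem_Jc t
  let f' : A5 →* Hs t t := f.codRestrict _ fun g => M.of_comm (C.comm g)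
  let t' : Hs t t := ⟨t, M.of_comm rfl⟩
  have cj : ∀ x : Hs t t, (x : G) ∈ Jc t → x * t = t * x → IsConj (tb t) (QuotientGroup.mk x) := by
    rintro x ⟨g, hg⟩ e
    have h1 : g ∈ Hs t t := by
      change R t t _
      exact hg ▸ R.one ht ⟨g, hg⟩ e
    exact (QuotientGroup.mk' (Y t)).map_isConj
      (isConj_iff.mpr ⟨⟨g, h1⟩, Subtype.ext hg.symm⟩ : IsConj t' x)
  refine ⟨(QuotientGroup.mk' _).comp f', ⟨(injective_iff_map_eq_one _).mpr fun g hg => ?_, ?_,
    fun g => ?_, fun h hh => ?_, fun g e => ?_⟩, cj (f' p0) (H.both C).1 (C.comm _),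
    cj (t' * f' p0) (H.both C).2 ?_⟩
  · exact C.inj ((congrArg Subtype.val (H.YW ((QuotientGroup.eq_one_iff _).mp hg)
      (C.fW g))).trans (map_one f).symm)
  · exact congrArg QuotientGroup.mk (Subtype.ext C.sq : t' * t' = 1)
  · exact congrArg QuotientGroup.mk (Subtype.ext (C.comm g) : f' g * t' = t' * f' g)
  · obtain ⟨h, rfl⟩ := QuotientGroup.mk_surjective h
    obtain ⟨w, hw, h1⟩ := H.key (H.comm_of_mk hh)
    let w' : Hs t t := ⟨w, M.of_comm (C.comm_of_mem hw)⟩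
    have h2 : (QuotientGroup.mk w'⁻¹ : Hs t t ⧸ Y t) = QuotientGroup.mk h :=
      QuotientGroup.eq.mpr (mem_Y.mpr fun s hs => by
        simpa using mem_D.mp (H.cent h1 hs s (hs.mem ht) rfl) s (mem_W (hs.mem ht) rfl))
    obtain ⟨g, hg⟩ := (C.mem _).mp (inv_mem hw)
    exact ⟨g, hg.imp (fun e => h2 ▸ congrArg QuotientGroup.mk (Subtype.ext e : w'⁻¹ = f' g))
      fun e => h2 ▸ congrArg QuotientGroup.mk (Subtype.ext e : w'⁻¹ = t' * f' g)⟩
  · exact C.ne g (inv_mul_eq_one.mp (congrArg Subtype.val (H.YW (QuotientGroup.eq.mp e)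
      (mul_mem (inv_mem (C.fW g)) C.sW))))
  · change t * f p0 * t = t * (t * f p0)
    rw [mul_assoc, C.comm]

omit [Finite G] in
theorem odd' {s : G} (hs : s ∈ Jc t) : ¬ 2 ∣ ((centralizer {s}).subgroupOf (Hs t s)).index := by
  refine fun h => H.odd ?_
  obtain ⟨g, rfl⟩ := hs
  rw [← CS.index_cen_conj g]
  exact h.trans (relIndex_dvd_index_of_le fun x hx =>
    M.of_comm (mem_centralizer_singleton_iff.mp hx))

theorem quot : IsSimpleGroup (Hs t t ⧸ Y t) ∧ Cfsg.IsTwoCentralInvolution (tb t) ∧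
    Nonempty (centralizer {tb t} ≃* Multiplicative (ZMod 2) × A5) := by
  obtain ⟨f, C, c1, c2⟩ := H.cen
  have h1 : ¬ 2 ∣ (centralizer {tb t}).index := fun h => H.odd' (self_mem_Jc t) (h.trans (by
    rw [← index_comap_of_surjective _ (QuotientGroup.mk'_surjective (Y t))]
    refine index_dvd_of_le fun x hx => mem_centralizer_singleton_iff.mpr ?_
    exact congrArg QuotientGroup.mk (Subtype.ext (mem_centralizer_singleton_iff.mp hx) :
      x * ⟨t, M.of_comm rfl⟩ = ⟨t, M.of_comm rfl⟩ * x)))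
  have h2 := isTwoCentral_of_card (orderOf_eq_prime (by rw [pow_two, C.sq]) C.ne_one) h1
  refine ⟨C.simple (fun K hK => h1 (hK ▸ index_dvd_of_le fun x hx => ?_)) h2, h2, C.equiv⟩
  haveI := normal_of_index_eq_two hK
  have n : ∀ a, IsConj (tb t) a → (a ∈ K ↔ tb t ∈ K) := fun a h => by
    obtain ⟨g, rfl⟩ := isConj_iff.mp h
    exact ⟨fun h => by simpa [mul_assoc] using Normal.conj_mem inferInstance _ h g⁻¹,
      fun h => Normal.conj_mem inferInstance _ h g⟩
  have h3 : tb t ∈ K := (n _ c2).mp ((mul_mem_iff_of_index_two hK).mpr (n _ c1).symm)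
  have h4 : ∀ g, f g ∈ K := fun g => by
    rcases (inferInstance : (K.comap f).Normal).eq_bot_or_eq_top with h | h
    · exact absurd (mem_bot.mp (h.le ((n _ c1).mpr h3))) (show p0 ≠ 1 by decide)
    · exact (h ▸ mem_top g : g ∈ K.comap f)
  obtain ⟨g, rfl | rfl⟩ := C.cover x (mem_centralizer_singleton_iff.mp hx)
  · exact h4 g
  · exact mul_mem h3 (h4 g)

theorem mem_comp {s u : G} (hs : s ∈ Jc t) (hu : u ∈ Jc t) (h : u ∈ Hs t s) : R t s u := by
  obtain ⟨P, hP⟩ := CS.exists_sylow_le_of_not_dvd_index (H.odd' hs)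
  obtain ⟨g, hg⟩ := Inv.exists_conj_mem_sylow P (x := ⟨u, h⟩) (Subtype.ext (H.sq hu))
  have h2 := R.one hs (conj_mem_Jc (g : G) hu) (mem_centralizer_singleton_iff.mp (hP hg))
  exact R.tr (inv_mem g.2) (by simpa [mul_assoc] using h2.conj (g : G)⁻¹)

theorem half {x y : G} (hx : x ∈ Jc t) (hy : y ∈ Jc t) (h : ¬ Odd (orderOf (x * y))) :
    ∃ n : ℕ, (x * y) ^ n ∈ Jc t ∧ R t x y := by
  obtain ⟨h1, h2, h3⟩ := TwoInv.half_pow_spec (H.sq hx) (H.sq hy) (orderOf_pos _).ne'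
    (Nat.not_odd_iff_even.mp h)
  have h4 := TwoInv.isConj_mul_zpow (H.sq hx) (H.sq hy) (orderOf (x * y) / 2 : ℕ)
  rw [zpow_natCast] at h4
  refine ⟨orderOf (x * y) / 2, ?_⟩
  generalize (x * y) ^ (orderOf (x * y) / 2) = z at *
  have h5 : x * z ∈ Jc t := h4.elim (fun h => (isConj_iff.mp h).elim fun g e => e ▸ conj_mem_Jc g hx)
    fun h => (isConj_iff.mp h).elim fun g e => e ▸ conj_mem_Jc g hy
  have h6 := H.mul_mem_Jc hx h5 (by rw [mul_assoc, h2.eq]) (by rintro e; simp_all)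
  rw [mul_assoc, h2.eq, ← mul_assoc, H.sq hx, one_mul] at h6
  exact ⟨h6, (R.one hx h6 h2).tr (R.one hy h6 h3).sy⟩

theorem conn {s : G} (hs : s ∈ Jc t) : R t t s := by
  by_contra hn
  have ht := self_mem_Jc t
  let X : Subgroup G :=
    { carrier := {g | M t g t t ∧ M t g s s ∨ M t g t s ∧ M t g s t}
      one_mem' := Or.inl ⟨M.of_comm (by simp), M.of_comm (by simp)⟩
      mul_mem' := by
        rintro g h (⟨g1, g2⟩ | ⟨g1, g2⟩) (⟨h1, h2⟩ | ⟨h1, h2⟩)
        exacts [Or.inl ⟨h1.mul g1, h2.mul g2⟩, Or.inr ⟨h1.mul g2, h2.mul g1⟩,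
          Or.inr ⟨h1.mul g1, h2.mul g2⟩, Or.inl ⟨h1.mul g2, h2.mul g1⟩]
      inv_mem' := fun h => h.imp (fun h => ⟨h.1.inv, h.2.inv⟩) fun h => ⟨h.2.inv, h.1.inv⟩ }
  have odd : ∀ m m', m ∈ Jc t ∧ M t m t s ∧ M t m s t → m' ∈ Jc t ∧ M t m' t s ∧ M t m' s t →
      Odd (orderOf (m * m')) := fun m m' h h' => by
    by_contra hc
    obtain ⟨n, h1, -⟩ := H.half h.1 h'.1 hc
    exact hn ((H.mem_comp ht h1 (pow_mem (h'.2.1.mul h.2.2) n)).tr
      (H.mem_comp hs h1 (pow_mem (h'.2.2.mul h.2.1) n)).sy)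
  have mid : ∀ u, R t t u → ∃ m, (m ∈ Jc t ∧ M t m t s ∧ M t m s t) ∧ m * u * m⁻¹ = s ∧
      m * s * m⁻¹ = u := fun u hu => by
    have h0 := hu.mem ht
    obtain ⟨k, hk⟩ := TwoInv.exists_conj_of_odd (H.sq h0) (H.sq hs) (by
      by_contra hc
      exact (H.half h0 hs hc).elim fun _ h => hn (hu.tr h.2))
    have h1 : (u * s) ^ k * u ∈ Jc t := by
      rw [TwoInv.zpow_mul_of_inverts (TwoInv.conj_mul_left (H.sq h0) (H.sq hs))]
      exact (TwoInv.isConj_mul_zpow (H.sq h0) (H.sq hs) _).elim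
        (fun h => (isConj_iff.mp h).elim fun g e => e ▸ conj_mem_Jc g h0)
        fun h => (isConj_iff.mp h).elim fun g e => e ▸ conj_mem_Jc g hs
    have h2 : (u * s) ^ k * u * u * ((u * s) ^ k * u)⁻¹ = s := Eq.trans (by group) hk
    generalize (u * s) ^ k * u = m at h1 h2
    have h3 : m * s * m⁻¹ = u := by
      rw [← h2, ← mul_assoc, ← mul_assoc, H.sq h1, one_mul, mul_assoc, ← mul_inv_rev, H.sq h1,
        inv_one, mul_one]
    exact ⟨m, ⟨h1, by simpa only [M, h2] using hu.sy.conj m, by simpa only [M, h3] using hu⟩, h2, h3⟩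
  obtain ⟨m, hm, m1, -⟩ := mid t R.rfl
  have iso : BS.IsoW (⟨m, Or.inr hm.2⟩ : X) := ⟨Subtype.ext (H.sq hm.1), fun g => by
    rw [← Subgroup.orderOf_coe]
    refine odd m (g * m * (g : G)⁻¹) hm ⟨conj_mem_Jc _ hm.1, ?_⟩
    rcases g.2 with ⟨g1, g2⟩ | ⟨g1, g2⟩
    · exact ⟨g1.inv.mul (hm.2.1.mul g2), g2.inv.mul (hm.2.2.mul g1)⟩
    · exact ⟨g2.inv.mul (hm.2.2.mul g1), g1.inv.mul (hm.2.1.mul g2)⟩⟩
  obtain ⟨hS, h2, ⟨e⟩⟩ := H.quot
  obtain ⟨c1, -, -, -, -, c7⟩ := JR.j1_local _ h2 e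
  let E := (((Cfsg.oddCore X).map X.subtype).subgroupOf (Hs t t)).map (QuotientGroup.mk' (Y t))
  refine no_odd c1 (fun x hx => (c7 x hx).2) E (fun h => not_dvd_card_pPrimeCore 2 X
    (h.trans ((card_map_dvd _ _).trans ((card_comap_dvd_of_injective _ _
      (subtype_injective _)).trans (card_map_dvd _ _))))) (Dvd.dvd.trans ?_
      (relIndex_dvd_card (centralizer {tb t}) E))
  have h3 := (centralizer {tb t}).card_mul_index
  rw [c1, Nat.card_congr e.toEquiv, Nat.card_prod, Nat.card_eq_fintype_card,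
    nat_card_alternatingGroup, ← relIndex_top_right, ← ncard_conj] at h3
  suffices h : {y | ∃ h ∈ (⊤ : Subgroup _), h * tb t * h⁻¹ = y} ⊆
      {y | ∃ h ∈ E, h * tb t * h⁻¹ = y} by
    rw [← ncard_conj, ← h.antisymm fun _ ⟨g, _, h⟩ => ⟨g, mem_top g, h⟩]
    simp [Nat.factorial] at h3 ⊢
    omega
  rintro _ ⟨g, -, rfl⟩
  obtain ⟨g, rfl⟩ := QuotientGroup.mk_surjective g
  obtain ⟨m', hm', -, m2⟩ := mid _ g.2
  obtain ⟨k, hk⟩ := TwoInv.exists_conj_of_odd (H.sq hm.1) (H.sq hm'.1) (odd m m' hm hm')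
  have h4 := inv_mem (BS.zStarFor X _ iso ((⟨m, Or.inr hm.2⟩ * ⟨m', Or.inr hm'.2⟩) ^ k))
  have h5 : m' * m ∈ (Cfsg.oddCore X).map X.subtype := ⟨_, h4, by
    change (m * (m * m') ^ k * m⁻¹ * ((m * m') ^ k)⁻¹)⁻¹ = _
    calc _ = (m * m') ^ k * m * ((m * m') ^ k)⁻¹ * m⁻¹ := by group
      _ = _ := by rw [hk, inv_eq_of_mul_eq_one_right (H.sq hm.1)]⟩
  let x : Hs t t := ⟨m' * m, hm.2.1.mul hm'.2.2⟩
  refine ⟨_, ⟨x, h5, rfl⟩, congrArg QuotientGroup.mk (Subtype.ext ?_ :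
    x * ⟨t, M.of_comm rfl⟩ * x⁻¹ = g * ⟨t, M.of_comm rfl⟩ * g⁻¹)⟩
  change m' * m * t * (m' * m)⁻¹ = g * t * (g : G)⁻¹
  rw [← m2, ← m1]; group

theorem isoJ1 : Cfsg.Spor.IsoJ1 (normalClosure ({t} : Set G)) := by
  obtain ⟨hS, h2, ⟨e⟩⟩ := H.quot
  obtain ⟨ε⟩ := isoJ1_of_cen h2 e
  obtain ⟨f, C⟩ := H.wc
  set N := normalClosure ({t} : Set G)
  have tN : t ∈ N := subset_normalClosure rfl
  have hH : ∀ g, g ∈ Hs t t := fun g => H.conn (conj_mem_Jc g (self_mem_Jc t))
  let π : G →* Hs t t ⧸ Y t := (QuotientGroup.mk' _).comp ((MonoidHom.id G).codRestrict _ hH)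
  have hπ : Function.Surjective π := fun y => by
    obtain ⟨y, rfl⟩ := QuotientGroup.mk_surjective y
    exact ⟨y, rfl⟩
  have h3 : N.map π = ⊤ := (Normal.map inferInstance π hπ).eq_bot_or_eq_top.resolve_left
    fun h => by simpa [show tb t = 1 from mem_bot.mp (h.le (mem_map_of_mem π tN))] using h2.1
  have h4 : Schur.IsCentralExt (ε.toMonoidHom.comp (π.comp N.subtype)) := by
    refine ⟨ε.surjective.comp fun y => ?_, fun y hy => mem_center_iff.mpr fun g => ?_⟩
    · obtain ⟨x, hx, rfl⟩ := h3.ge (mem_top y)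
      exact ⟨⟨x, hx⟩, rfl⟩
    · have h5 := mem_Y.mp ((QuotientGroup.eq_one_iff _).mp (ε.map_eq_one_iff.mp hy))
      have h6 : N ≤ centralizer {(y : G)} := by
        refine (closure_le _).mpr fun x hx => ?_
        obtain ⟨_, rfl, h⟩ := Group.mem_conjugatesOfSet_iff.mp hx
        obtain ⟨k, rfl⟩ := isConj_iff.mp h
        exact mem_centralizer_singleton_iff.mpr (h5 _ (hH k))
      exact Subtype.ext (mem_centralizer_singleton_iff.mp (h6 g.2))
  have h5 : W t t ≤ N := by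
    rw [W, closure_le]
    rintro _ ⟨⟨g, rfl⟩, -⟩
    exact Normal.conj_mem inferInstance _ tN g
  have h6 : N ≤ ⁅N, N⁆ := normalClosure_le_normal <| Set.singleton_subset_iff.mpr <| by
    obtain ⟨g, hg⟩ := (H.both C).1
    have h7 : f p0 ∈ ⁅N, N⁆ := by
      have h8 : f.range ≤ N := by rintro _ ⟨k, rfl⟩; exact h5 (C.fW k)
      refine commutator_mono h8 h8 ?_
      rw [MonoidHom.range_eq_map, ← map_commutator, ← _root_.commutator_def, a5_perfect]
      exact mem_map_of_mem f (mem_top _)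
    simpa [hg, mul_assoc] using Normal.conj_mem inferInstance _ h7 g⁻¹
  refine ⟨MulEquiv.ofBijective _ ⟨(injective_iff_map_eq_one _).mpr fun y hy => ?_, h4.surj⟩⟩
  refine mem_bot.mp ((Schur.stemKer_eq_bot_of_trivial J1.trivial_multiplier h4).le ⟨hy, ?_⟩)
  obtain ⟨z, hz, h⟩ := (map_subtype_commutator N).ge (h6 y.2)
  exact (Subtype.ext h : z = y) ▸ hz

end HW

theorem hw_of_equiv [Finite G] {t : G} (ht : orderOf t = 2) (S : Sylow 2 G)
    (htc : ∀ s ∈ (S : Subgroup G), s * t = t * s)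
    (e : W t t ≃* Multiplicative (ZMod 2) × A5) : HW t := by
  refine ⟨fun h => S.not_dvd_index (h.trans (index_dvd_of_le fun s hs =>
    mem_centralizer_singleton_iff.mpr (htc s hs))), ?_⟩
  let t' : W t t := ⟨t, mem_W (self_mem_Jc t) rfl⟩
  have h1 : W t t ≤ centralizer {t} :=
    (closure_le _).mpr fun x hx => mem_centralizer_singleton_iff.mpr hx.2
  have h2 : centralizer {t'} = ⊤ := eq_top_iff.mpr fun x _ => mem_centralizer_singleton_iff.mpr
    (Subtype.ext (mem_centralizer_singleton_iff.mp (h1 x.2)))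
  obtain ⟨f, C⟩ := CenG.exists_cen_of_equiv (s := t')
    (fun h => by simp [show t = 1 from congrArg Subtype.val h] at ht) (fun g h => a5_center h)
    (((MulEquiv.subgroupCongr h2).trans topEquiv).trans e)
  refine ⟨(W t t).subtype.comp f, (subtype_injective _).comp C.inj, congrArg Subtype.val C.sq,
    fun g => congrArg Subtype.val (C.comm g), fun g h => C.ne g (Subtype.ext h),
    fun h => ⟨fun hh => ?_, ?_⟩⟩
  · obtain ⟨g, hg⟩ := C.cover ⟨h, hh⟩ (Subtype.ext (mem_centralizer_singleton_iff.mp (h1 hh)))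
    exact ⟨g, hg.imp (congrArg Subtype.val) (congrArg Subtype.val)⟩
  · rintro ⟨g, rfl | rfl⟩
    · exact (f g).2
    · exact (t' * f g).2

end CL.J1W
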