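import Mathlib
import Cfsg.Agent.INV.NCycB

/-!
Groups with trivial solvable radical in which every non-trivial subgroup of a cyclic group of even
order has the normaliser of the cyclic group are `PSL₂(q)` or `PGL₂(q)`.
-/

set_option autoImplicit false
set_option linter.unusedSectionVars false

namespace CL.NCyc

open Subgroup Cfsg CL.Inv CL.GW CL.GW.DF CL.PGL2 CL.AutPSL
open scoped MatrixGroups commutatorElement

section aut

variable {F : Type*} [Field F] [Finite F]

theorem det_w : (!![0, 1; -1, 0] : Matrix (Fin 2) (Fin 2) F).det ≠ 0 := by simp [Matrix.det_fin_two]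

/-- the Weyl element -/
noncomputable def wy (F : Type*) [Field F] [Finite F] : PGL(2, F) := ofMat _ (det_w (F := F))

theorem wy_mem : wy F ∈ pslIn F := ofMat_mem_pslIn_of_det _ (by simp [Matrix.det_fin_two])

theorem wy_inf : wy F • (inf : P1 F) = pt 0 := by rw [wy, ofMat_smul_inf_eq_pt]; simp

theorem wy_zero : wy F • (pt 0 : P1 F) = inf := by rw [wy, ofMat_smul_pt_eq_inf]; simp

theorem orderOf_wy : orderOf (wy F) = 2 :=
  orderOf_eq_two_of (by rw [wy, ofMat_mul, ofMat_eq_one_iff]; simp)
    fun e => inf_ne_pt _ (by simpa [e] using wy_inf (F := F))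

theorem mapG_wy (σ : F ≃+* F) : mapG (σ : F →+* F) (wy F) = wy F := by
  rw [wy, mapG_ofMat]
  congr 1
  ext i j
  fin_cases i <;> fin_cases j <;> simp

theorem wy_aff (c : Fˣ) : wy F * aff c 0 * (wy F)⁻¹ = aff c⁻¹ 0 := by
  rw [mul_inv_eq_iff_eq_mul, wy, aff, aff, ofMat_mul, ofMat_mul, ofMat_eq_iff]
  exact ⟨c⁻¹, by simp⟩

theorem mapG_one_one (σ : F ≃+* F) : mapG (σ : F →+* F) (aff 1 1) = aff 1 1 := by
  rw [mapG_aff, map_one, map_one]

theorem commute_fld {σ : F ≃+* F} {s : PGL(2, F)} (h : mapG (σ : F →+* F) s = s) :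
    Commute (iP F s) (fld (Fin 2) F σ) := by
  rw [Commute, SemiconjBy, fld_mul_iP, h]

theorem sg_fld (σ : F ≃+* F) : sg (fld (Fin 2) F σ) = σ :=
  right_eq_of_gam_eq ((exists_gam _).choose_spec.trans (fld_apply σ))

theorem sg_iP (g : PGL(2, F)) : sg (iP F g) = 1 := by
  obtain ⟨x, rfl⟩ := exists_mk g
  exact right_eq_of_gam_eq ((exists_gam _).choose_spec.trans ((iP_mk x).trans (diag_apply x)))

variable {H : Subgroup (MulAut PSL(2, F))} (h : P H) (hL : LL F ≤ H) (h4 : Nat.card F ≠ 4)
include h hL h4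

theorem fld_eq_one {τ : F ≃+* F} (hτ : fld (Fin 2) F τ ∈ H) : τ = 1 := by
  by_contra h1
  have hw := hL (iP_mem.mpr wy_mem)
  have hu : iP F (aff 1 1) ∈ H := hL (iP_mem.mpr ((aff_mem_pslIn_iff _ _).mpr (by simp)))
  have hu1 : iP F (aff 1 1) ≠ 1 := fun e =>
    one_ne_zero (aff_eq_one_iff.mp (iP_inj (e.trans (map_one _).symm))).2
  rcases Nat.even_or_odd (orderOf (fld (Fin 2) F τ)) with h2 | h2
  · obtain ⟨s, hs, hs2⟩ := exists_inv h2
    have hsH := zpowers_le.mpr hτ hs
    rw [← MonoidHom.map_zpowers] at hs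
    obtain ⟨ρ, -, rfl⟩ := hs
    rcases Nat.even_or_odd (Nat.card F) with h3 | h3
    · have h5 := CL.FieldAut.card_fixF_pow ρ
      rw [← orderOf_injective _ (fld_injective (ι := Fin 2)), hs2] at h5
      have h6 : 1 < Nat.card (CL.FieldAut.fixF ρ) := Finite.one_lt_card
      have h7 : Nat.card (CL.FieldAut.fixF ρ) ≠ 2 := fun e => h4 (by rw [← h5, e]; norm_num)
      classical
      have := Fintype.ofFinite (CL.FieldAut.fixF ρ)
      obtain ⟨a, -, ha⟩ := Finset.exists_mem_notMem_of_card_lt_card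
        (show ({0, 1} : Finset (CL.FieldAut.fixF ρ)).card < Finset.univ.card from
          Finset.card_le_two.trans_lt (by rw [Finset.card_univ, ← Nat.card_eq_fintype_card]; omega))
      simp only [Finset.mem_insert, Finset.mem_singleton, not_or, Subtype.ext_iff] at ha
      let c : Fˣ := Units.mk0 a ha.1
      have hc : c ≠ 1 := fun e => ha.2 (congrArg Units.val e)
      have h8 : Odd (orderOf (iP F (aff c 0))) := by
        have h9 : Odd (Nat.card Fˣ) := by
          rw [Nat.card_units]
          exact Nat.Even.sub_odd Nat.card_pos h3 odd_one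
        refine h9.of_dvd_nat (orderOf_dvd_of_pow_eq_one ?_)
        rw [← map_pow, aff_zero_pow, pow_card_eq_one', aff_one_zero, map_one]
      have h9 := (h.nz_of_commute hsH (hL (iP_mem.mpr (pslIn_eq_top_of_even h3 ▸ mem_top _))) hu hs2 h8
        (commute_fld (by
          rw [mapG_aff, map_zero]
          congr 1
          exact Units.ext (CL.FieldAut.mem_fixF.mp a.2))).symm
        (commute_fld (mapG_one_one ρ))).commute_conj
      rw [← map_inv, ← map_mul, ← map_mul, commute_iP, aff_conj, Commute, SemiconjBy, aff_mul, aff_mul,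
        aff_inj] at h9
      refine hc (Units.ext (sub_eq_zero.mp (mul_self_eq_zero.mp ?_)))
      have := h9.2
      simp only [Units.val_one] at this ⊢
      linear_combination this
    · have h5 : Odd (orderOf (iP F (aff 1 1))) := by
        refine h3.of_dvd_nat (orderOf_dvd_of_pow_eq_one ?_)
        have := Fintype.ofFinite F
        rw [← map_pow, aff_one_pow, Nat.card_eq_fintype_card, FiniteField.cast_card_eq_zero, zero_mul,
          aff_one_zero, map_one]
      have h6 := (h.nz_of_commute hsH hu hw hs2 h5 (commute_fld (mapG_one_one ρ)).symm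
        (commute_fld (mapG_wy ρ)))
      rw [Nz, ← map_inv, ← map_mul, ← map_mul, ← MonoidHom.map_zpowers, mem_map_iff_mem iP_inj] at h6
      have h7 := zpowers_le.mpr (show aff (1 : Fˣ) 1 ∈ MulAction.stabilizer PGL(2, F) (inf : P1 F) from
        aff_smul_inf _ _) h6
      rw [MulAction.mem_stabilizer_iff, mul_smul, mul_smul, inv_eq_of_orderOf_two orderOf_wy, wy_inf,
        ← wy_zero, smul_left_cancel_iff, aff_smul_pt] at h7
      simpa using pt_injective h7
  · have h3 := h.commute_of_nz hw hτ hu (orderOf_iP (wy F) ▸ orderOf_wy) h2 (commute_fld (mapG_wy τ))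
      (fun e => h1 (fld_injective (e.trans (map_one _).symm)))
      (.of_commute (commute_fld (mapG_one_one τ)))
    have h5 := congrArg (· • (inf : P1 F)) (commute_iP.mp h3).eq
    simp only [mul_smul, aff_smul_inf, wy_inf, aff_smul_pt] at h5
    simpa using pt_injective h5

theorem sg_eq_one {a : MulAut PSL(2, F)} (ha : a ∈ H) : sg a = 1 := by
  obtain ⟨g, hg⟩ := exists_eq a
  generalize sg a = σ at hg
  subst hg
  by_contra h1
  have h2 : g ∉ pslIn F := fun e =>
    h1 (fld_eq_one h hL h4 ((mul_mem_cancel_left (hL (iP_mem.mpr e))).mp ha))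
  have hodd : Odd (Nat.card F) := Nat.not_even_iff_odd.mp fun e =>
    h2 (pslIn_eq_top_of_even e ▸ mem_top _)
  have hi := index_pslIn_of_odd hodd
  have sq : ∀ g k : PGL(2, F), iP F g * fld (Fin 2) F σ * (iP F k * fld (Fin 2) F σ) =
      iP F (g * mapG (σ : F →+* F) k) * fld (Fin 2) F (σ * σ) := fun g k => by
    rw [map_mul, map_mul, mul_assoc, ← mul_assoc (fld _ F σ), fld_mul_iP]
    group
  have h3 : σ * σ = 1 := by
    have := mul_mem ha ha
    rw [sq] at this
    exact fld_eq_one h hL h4 ((mul_mem_cancel_left (hL (iP_mem.mpr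
      ((mul_mem_iff_of_index_two hi).mpr (mapG_mem_iff σ g).symm)))).mp this)
  obtain ⟨c, hc⟩ := IsCyclic.exists_generator (α := Fˣ)
  have h2' : (2 : F) ≠ 0 := Ring.two_ne_zero (char_ne_two hodd)
  have hcs : ¬ IsSquare (c : F) := fun ⟨e, he⟩ => by
    have := Fintype.ofFinite F
    obtain ⟨d, hd⟩ := FiniteField.exists_nonsquare (F := F) (char_ne_two hodd)
    obtain ⟨k, hk⟩ := mem_zpowers_iff.mp (hc (Units.mk0 d fun a => hd (a ▸ IsSquare.zero)))
    have hk' := congrArg Units.val hk
    rw [Units.val_zpow_eq_zpow_val, he, mul_zpow] at hk'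
    exact hd ⟨_, hk'.symm⟩
  have pw : ∀ e : F, e ≠ 0 → ∃ k : ℤ, e = (c : F) ^ k := fun e he => by
    obtain ⟨k, hk⟩ := mem_zpowers_iff.mp (hc (Units.mk0 e he))
    exact ⟨k, by rw [← Units.val_zpow_eq_zpow_val, hk, Units.val_mk0]⟩
  have a1 : σ c ≠ c := fun e => h1 (RingEquiv.ext fun y => by
    by_cases hy : y = 0
    · rw [hy, map_zero, map_zero]
    · obtain ⟨k, rfl⟩ := pw y hy
      rw [map_zpow₀, e]
      rfl)
  have a0 : (1 : F) + c ≠ 0 := fun e => a1 (by rw [eq_neg_of_add_eq_zero_right e, map_neg, map_one])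
  obtain ⟨k, hk⟩ := pw _ a0
  have a4 := congrArg σ hk
  rw [map_add, map_one, map_zpow₀] at a4
  have a2 : σ c ≠ -c := fun e => by
    rw [e] at a4
    rcases Int.even_or_odd k with b | b
    · rw [b.neg_zpow, ← hk] at a4
      exact c.ne_zero ((mul_eq_zero.mp (show 2 * (c : F) = 0 by linear_combination -a4)).resolve_left h2')
    · rw [b.neg_zpow, ← hk] at a4
      exact h2' (by linear_combination a4)
  have a3 : c * σ c ≠ 1 := fun e => by
    have b1 : (1 + c) * (1 + σ c) = 1 := by rw [a4, hk, ← mul_zpow, e, one_zpow]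
    exact hcs ⟨c * c, by linear_combination (-c * (c - 1) * c) * b1 + (c * (c - 1) * (c + 1)) * e⟩
  let c' : Fˣ := Units.map ((σ : F →+* F) : F →* F) c
  have hb : iP F (aff c 0) * fld (Fin 2) F σ ∈ H := by
    have := mul_mem (hL (iP_mem.mpr ((mul_mem_iff_of_index_two hi).mpr
      (iff_of_false (fun e => hcs ((aff_mem_pslIn_iff c 0).mp e)) fun e => h2 (inv_mem_iff.mp e))))) ha
    rwa [map_mul, map_inv, mul_assoc, inv_mul_cancel_left] at this
  have h5 : Even (orderOf (iP F (aff c 0) * fld (Fin 2) F σ)) := by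
    have := orderOf_map_dvd sg (iP F (aff c 0) * fld (Fin 2) F σ)
    rw [map_mul, sg_iP, sg_fld, one_mul, orderOf_eq_two_of h3 h1] at this
    exact even_iff_two_dvd.mpr this
  have sq' : ∀ d e : Fˣ, iP F (aff d 0) * fld (Fin 2) F σ * (iP F (aff e 0) * fld (Fin 2) F σ) =
      iP F (aff (d * Units.map ((σ : F →+* F) : F →* F) e) 0) := fun d e => by
    rw [sq, h3, map_one, mul_one, mapG_aff, aff_mul, map_zero, mul_zero, add_zero]
    rfl
  have h6 := (h _ hb h5 _ (mul_mem (mem_zpowers _) (mem_zpowers _)) (by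
      rw [sq']
      exact fun e => a3 (congrArg Units.val (aff_eq_one_iff.mp (iP_inj (e.trans (map_one _).symm))).1))
    _ (hL (iP_mem.mpr wy_mem)) (by
      rw [Nz, sq', ← map_inv, ← map_mul, ← map_mul, wy_aff]
      refine inv_mem_iff.mp ?_
      rw [← map_inv, aff_inv, inv_inv, mul_zero, neg_zero]
      exact mem_zpowers _)).commute_conj
  rw [← conj_mul, (commute_fld (mapG_wy σ)).mul_inv_cancel, ← map_inv, ← map_mul, ← map_mul, wy_aff,
    Commute, SemiconjBy, sq', sq'] at h6
  have h7 := congrArg Units.val (aff_inj.mp (iP_inj h6)).1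
  simp only [Units.val_mul, Units.val_inv_eq_inv_val, Units.coe_map, MonoidHom.coe_coe, map_inv₀,
    RingHom.coe_coe] at h7
  have h8 : σ c ≠ 0 := (map_ne_zero σ).mpr c.ne_zero
  have h9 : σ c * σ c = c * c := by
    field_simp at h7
    linear_combination h7
  exact (mul_self_eq_mul_self_iff.mp h9).elim a1 a2

end aut

variable {G : Type*} [Group G] [Finite G]

theorem of_normal (h : P (⊤ : Subgroup G)) {N : Subgroup G} [N.Normal]
    (hC : centralizer (N : Set G) = ⊥) {F : Type*} [Field F] [Finite F] (hF : Nat.card F ≠ 4)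
    (e : N ≃* PSL(2, F)) : Nonempty (G ≃* PSL(2, F)) ∨ Nonempty (G ≃* PGL(2, F)) := by
  let φ : G →* MulAut PSL(2, F) := (MulAut.congr e).toMonoidHom.comp MulAut.conjNormal
  have hφ : Function.Injective φ := by
    rw [injective_iff_map_eq_one]
    intro g hg
    refine mem_bot.mp (hC ▸ fun n hn => ?_)
    have h1 : MulAut.conjNormal (H := N) g = 1 := (MulAut.congr e).injective (hg.trans (map_one _).symm)
    exact (mul_inv_eq_iff_eq_mul.mp (congrArg (fun a : MulAut N => (a ⟨n, hn⟩ : G)) h1)).symm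
  have h1 : ∀ n : N, φ n = MulAut.conj (e n) := fun n => by
    ext x
    obtain ⟨x, rfl⟩ := e.surjective x
    simp only [φ, MulAut.conj_apply, ← map_inv, ← map_mul]
    simp only [MulEquiv.toMonoidHom_eq_coe, MonoidHom.comp_apply, MonoidHom.coe_coe,
      MulAut.congr_apply, MulEquiv.trans_apply, MulEquiv.symm_apply_apply]
    congr 1
  have h2 : LL F ≤ φ.range := fun a ha => by
    rw [LL_eq] at ha
    obtain ⟨s, rfl⟩ := ha
    exact ⟨e.symm s, by rw [h1, e.apply_symm_apply]⟩
  have h4 : ∀ g, φ g ∈ (iP F).range := fun g =>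
    exists_iP_of_sg (sg_eq_one (h.map φ hφ) h2 hF ⟨g, rfl⟩)
  let θ : G →* PGL(2, F) := (MonoidHom.ofInjective (iP_inj (F := F))).symm.toMonoidHom.comp
    (φ.codRestrict _ h4)
  have h5 : ∀ g, iP F (θ g) = φ g := fun g => congrArg Subtype.val
    ((MonoidHom.ofInjective (iP_inj (F := F))).apply_symm_apply _)
  have hθ : Function.Injective θ := fun a b e => hφ (by rw [← h5, ← h5, e])
  have h6 : pslIn F ≤ θ.range := fun s hs => by
    obtain ⟨n, hn⟩ := h2 (iP_mem.mpr hs)
    exact ⟨n, iP_inj (by rw [h5, hn])⟩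
  by_cases h7 : θ.range = ⊤
  · exact Or.inr ⟨(MonoidHom.ofInjective hθ).trans ((MulEquiv.subgroupCongr h7).trans topEquiv)⟩
  · refine Or.inl ⟨(MonoidHom.ofInjective hθ).trans
      ((MulEquiv.subgroupCongr ?_).trans (pslInEquiv F).symm)⟩
    have h8 := relIndex_mul_index h6
    have h9 : (pslIn F).index ≤ 2 := index_pslIn (F := F) ▸ Nat.gcd_le_left _ two_pos
    have h10 : θ.range.index ≠ 1 := fun a => h7 (index_eq_one.mp a)
    have h11 := θ.range.index_ne_zero_of_finite
    have h12 := (pslIn F).index_ne_zero_of_finite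
    refine le_antisymm (relIndex_eq_one.mp ?_) h6
    have h13 : (pslIn F).relIndex θ.range * 2 ≤ 2 :=
      (Nat.mul_le_mul_left _ (by omega)).trans (h8.le.trans h9)
    have h14 : (pslIn F).relIndex θ.range ≠ 0 := fun a => h12 (by rw [← h8, a, zero_mul])
    omega

theorem two_centralizer (h : P (⊤ : Subgroup G)) {T : Type*} [Group T] [IsSimpleGroup T]
    (hT : ¬ IsMulCommutative T) (f : T →* G) (hf : Function.Injective f) :
    IsPGroup 2 (centralizer (f.range : Set G)) := by
  by_contra hn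
  have := Finite.of_injective f hf
  have := Fact.mk Nat.prime_two
  obtain ⟨x, hx, h1, h2⟩ := exists_st hn
  obtain ⟨t, ht⟩ := exists_prime_orderOf_dvd_card' 2 (CL.PSL2E.even_card_of_simple hT).two_dvd
  have h3 : St (f t) x := ⟨h, (orderOf_injective f hf t).trans ht, h1, h2, hx _ ⟨t, rfl⟩⟩
  exact ne_one_of_orderOf_two ht (mem_bot.mp (CL.Small.center_eq_bot hT ▸ mem_center_iff.mpr fun g =>
    hf (by rw [map_mul, map_mul, (h3.le (hx _ ⟨g, rfl⟩)).eq])))

theorem main [Nontrivial G] (hR : ∀ R : Subgroup G, R.Normal → Group.IsSolvable R → R = ⊥)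
    (h : P (⊤ : Subgroup G)) : ∃ (F : Type) (_ : Field F) (_ : Fintype F), 3 < Fintype.card F ∧
      (Nonempty (G ≃* PSL(2, F)) ∨ Nonempty (G ≃* PGL(2, F))) := by
  obtain ⟨N, hN⟩ := CL.exists_isMinNormal G
  have := hN.normal
  have := Fact.mk Nat.prime_two
  have hns : ¬ Group.IsSolvable N := fun e => hN.ne_bot (hR N inferInstance e)
  obtain ⟨T, m, hT, hs, -, ⟨e⟩⟩ := CL.Perm.exists_mulEquiv_pi_of_minimal_normal N hN.ne_bot
    hN.eq_bot_or_eq
  have hTc : ¬ IsMulCommutative T := fun hc => hns (Group.isSolvable_of_comm fun a b =>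
    e.injective (by
      rw [map_mul, map_mul]
      exact funext fun i => hc.1.1 _ _))
  have h2 : T.map N.subtype ≠ ⊥ := fun e => (nontrivial_iff_ne_bot T).mp inferInstance
    ((map_eq_bot_iff_of_injective _ N.subtype_injective).mp e)
  have h3 := two_centralizer h hTc (N.subtype.comp T.subtype)
    (N.subtype_injective.comp T.subtype_injective)
  rw [MonoidHom.range_comp, range_subtype] at h3
  have h4 : (T.map N.subtype).Normal := ⟨by
    rintro _ ⟨x, hx, rfl⟩ g
    refine ⟨MulAut.conjNormal g x, ?_, rfl⟩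
    have h5 : (T.comap (MulAut.conjNormal g : MulAut N).toMonoidHom).Normal := hT.comap _
    rcases (h5.subgroupOf T).eq_bot_or_eq_top with h6 | h6
    · have : IsPGroup 2 T := by
        refine h3.of_injective ((N.subtype.comp ((MulAut.conjNormal g⁻¹ : MulAut N).toMonoidHom.comp
          T.subtype)).codRestrict _ fun y => ?_) fun a b e => ?_
        · rintro _ ⟨z, hz, rfl⟩
          exact congrArg Subtype.val (commute_of_normal_of_disjoint _ _ hT h5
            (subgroupOf_eq_bot.mp h6).symm z _ hz (by simp)).eq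
        · have := congrArg Subtype.val e
          exact Subtype.ext ((MulAut.conjNormal g⁻¹ : MulAut N).injective (Subtype.ext this))
      have := this.isNilpotent
      exact (CL.PSL2E.not_solvable_of_simple hTc inferInstance).elim
    · exact subgroupOf_eq_top.mp h6 hx⟩
  have h5 := hN.eq_of_le (map_subtype_le T) h2
  obtain rfl : T = ⊤ := map_injective N.subtype_injective
    (by rw [h5, ← MonoidHom.range_eq_map, range_subtype])
  rw [h5] at h3
  have : IsSimpleGroup N := topEquiv.symm.isSimpleGroup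
  obtain ⟨F, _, _, hF, ⟨e'⟩⟩ := simple (G := N) (fun hc => hns (CL.isSolvable_of_isMulCommutative N))
    (h.comap N.subtype N.subtype_injective fun _ => mem_top _)
  have := h3.isNilpotent
  exact ⟨F, _, _, by omega, of_normal h (hR _ inferInstance inferInstance)
    (by rw [Nat.card_eq_fintype_card]; omega) e'⟩

end CL.NCyc
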