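import Cfsg.Agent.INV.Nag4
import Cfsg.Agent.FGS.PSL2Even

/-! Few Sylow subgroups of prime order, V: the self-centralizing case, identification. -/

set_option autoImplicit false
open Cfsg Subgroup CL.Char MulAction
open CL.Blk hiding irrOne irrOne_apply
open scoped ComplexConjugate

namespace CL.D1

variable {G : Type*} [Group G] [Finite G] {p : ℕ} [hp : Fact p.Prime]

omit hp in
theorem zero_or_zero {ψ θ : IrrCharacter G} {B : ℕ} (hθ : charDegree θ.1 = B)
    (hG : Nat.card G = charDegree ψ.1 * B * p) (hc : (charDegree ψ.1).Coprime B)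
    (hp : p.Prime) {y : G} (hy : ¬ p ∣ orderOf y) {q : ℕ} (hq : q.Prime) (hqy : q ∣ orderOf y) :
    (q ∣ B → θ.1 y = 0) ∧ (¬ q ∣ B → ψ.1 y = 0) := by
  have h1 : ¬ q ∣ p := fun h => hy ((Nat.prime_dvd_prime_iff_eq hq hp).1 h ▸ hqy)
  refine ⟨fun h => eq_zero_of_not_dvd hq (fun h' => ?_) hqy,
    fun h => eq_zero_of_not_dvd hq (fun h' => ?_) hqy⟩
  · rw [hG, hθ, mul_right_comm] at h'
    exact (hq.dvd_mul.1 (Nat.dvd_of_mul_dvd_mul_right (hθ ▸ θ.2.charDegree_pos) h')).elim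
      (fun h2 => hq.not_dvd_one (hc ▸ Nat.dvd_gcd h2 h)) h1
  · rw [hG, mul_assoc, mul_comm (charDegree ψ.1)] at h'
    exact (hq.dvd_mul.1 (Nat.dvd_of_mul_dvd_mul_right ψ.2.charDegree_pos h')).elim h h1

namespace SC
variable {P : Sylow p G} {e r : ℕ} {x g : G} (h : SC P e r x g) {D : Data G p e} {u m : ℕ}
include h

theorem psl_of_two [IsSimpleGroup G] (hG : ¬ IsMulCommutative G) (hodd : p ≠ 2)
    {ψ θ : IrrCharacter G} (hX : D.X = {ψ}) (hδ : D.δ ψ = 1) (hε : D.ε = 1) (hθ : θ ∈ D.Y)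
    (hψ : charDegree ψ.1 = p + 1) (hθ' : charDegree θ.1 = p + 2)
    (hn : Nat.card G = (p + 1) * (p + 2) * p) :
    (∃ k : ℕ, p + 1 = 2 ^ k) ∧ ∃ (F : Type) (_ : Field F) (_ : Fintype F),
      Fintype.card F = p + 1 ∧ Nonempty (G ≃* Matrix.ProjectiveSpecialLinearGroup (Fin 2) F) := by
  classical
  have := Fintype.ofFinite G
  have h1 := fun y => zero_or_zero (y := y) hθ' (hψ ▸ hn)
    (by rw [hψ]; exact (Nat.coprime_self_add_right (m := p + 1) (n := 1)).2 (by simp)) hp.out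
  have h2 : ∀ y, ¬ p ∣ orderOf y → θ.1 y = 1 + ψ.1 y := fun y hy => by
    simpa [hX, hδ, hε] using D.eqn θ hθ y hy
  have h3 : ∀ y, p ∣ orderOf y → ψ.1 y = 1 := fun y hy => by
    simpa [hδ] using D.val_X ψ (by simp [hX]) y hy
  have h4 : ∀ y, ψ.1 y = 0 → y ≠ 1 ∧ ¬ p ∣ orderOf y := fun y hy =>
    ⟨fun h => ψ.2.one_ne_zero (h ▸ hy), fun h => by simp [h3 y h] at hy⟩
  have h5 : ∀ y, ¬ p ∣ orderOf y → ψ.1 y = 0 → θ.1 y ≠ 0 := fun y hy h0 => by simp [h2 y hy, h0]
  have h6 : (Finset.univ.filter fun y => ψ.1 y = 0).card = (p + 2) * p := by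
    have h7 := card_mul_classInner ψ.1 ψ.1
    have h8 : ∀ y, ψ.1 y * conj (ψ.1 y) =
        1 + (if y = 1 then ((p + 2) * p : ℂ) else 0) - if ψ.1 y = 0 then 1 else 0 := fun y => by
      by_cases h0 : ψ.1 y = 0
      · simp [h0, (h4 y h0).1]
      by_cases hy1 : y = 1
      · rw [if_pos hy1, if_neg h0, hy1, ψ.2.apply_one_eq_charDegree, hψ, map_natCast]
        push_cast
        ring
      by_cases hy : p ∣ orderOf y
      · simp [h3 y hy, hy1]
      obtain ⟨q, hq, hqy⟩ := Nat.exists_prime_and_dvd (mt orderOf_eq_one_iff.1 hy1)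
      have h9 := h2 y hy
      rw [(h1 y hy hq hqy).1 (by_contra fun h' => h0 ((h1 y hy hq hqy).2 h'))] at h9
      simp [show ψ.1 y = -1 by linear_combination -h9, hy1]
    rw [ψ.2.inner_self, Finset.sum_congr rfl fun y _ => h8 y, Finset.sum_sub_distrib,
      Finset.sum_add_distrib, Finset.sum_boole] at h7
    simp only [Finset.sum_const, Finset.card_univ, nsmul_eq_mul, mul_one, Finset.sum_ite_eq',
      Finset.mem_univ, if_true, Nat.card_eq_fintype_card] at h7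
    have : (((Finset.univ.filter fun y => ψ.1 y = 0).card : ℕ) : ℂ) = (p + 2) * p := by
      linear_combination h7
    exact_mod_cast this
  have h7 : ∀ y, ψ.1 y = 0 → (Nat.card (centralizer ({y} : Set G))).Coprime ((p + 2) * p) := by
    intro y hy
    obtain ⟨hy1, hyp⟩ := h4 y hy
    refine Nat.Coprime.mul_right (Nat.coprime_of_dvd fun q hq hq1 hq2 => ?_)
      (hp.out.coprime_iff_not_dvd.2 (h.not_dvd_card_cent hy1 hyp)).symm
    have := Fact.mk hq
    obtain ⟨c, hc, hcq⟩ := CL.Small.exists_mem_orderOf_eq_prime _ q hq1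
    obtain ⟨s, hs, hsy⟩ := Nat.exists_prime_and_dvd (mt orderOf_eq_one_iff.1 hy1)
    have h8 : ∀ s : ℕ, s.Prime → s ∣ orderOf y → ¬ s ∣ p + 2 := fun s hs hsy h' =>
      h5 y hyp hy ((h1 y hyp hs hsy).1 h')
    have h9 := CL.Small.orderOf_mul_of_comm (CL.Small.mem_centralizer_singleton_iff'.1 hc)
      (by rw [hcq]; exact (hq.coprime_iff_not_dvd.2 fun h' => h8 q hq h' hq2).symm)
    have h10 : ¬ p ∣ orderOf (y * c) := by
      rw [h9, hcq, hp.out.dvd_mul, not_or]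
      refine ⟨hyp, fun h' => hodd ?_⟩
      exact (Nat.prime_dvd_prime_iff_eq hp.out Nat.prime_two).1
        ((Nat.dvd_add_right dvd_rfl).1 (h'.trans hq2))
    exact h5 _ h10 ((h1 _ h10 hs (h9 ▸ hsy.mul_right _)).2 (h8 s hs hsy))
      ((h1 _ h10 hq (h9 ▸ hcq ▸ dvd_mul_left _ _)).1 hq2)
  have h8 : ∀ y z, ψ.1 y = 0 → ψ.1 z = 0 → IsConj y z := fun y z hy hz => by
    have h9 : (p + 2) * p ∣ (centralizer ({y} : Set G)).index :=
      (h7 y hy).symm.dvd_of_dvd_mul_left (by rw [card_mul_index, hn, mul_assoc]; simp)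
    have h10 := Finset.eq_of_subset_of_card_le (s := Finset.univ.filter fun z => IsConj y z)
      (t := Finset.univ.filter fun y => ψ.1 y = 0) (fun w hw => by
        simp only [Finset.mem_filter, Finset.mem_univ, true_and] at hw ⊢
        rw [← ψ.2.isClassFunction.eq_of_isConj hw, hy])
      (by
        rw [h6, Char.card_filter_isConj]
        exact Nat.le_of_dvd (Nat.pos_of_ne_zero index_ne_zero_of_finite) h9)
    exact (Finset.mem_filter.1 (h10.ge (Finset.mem_filter.2 ⟨Finset.mem_univ _, hz⟩))).2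
  have hpo := hp.out.eq_two_or_odd.resolve_left hodd
  obtain ⟨n, hn2, ⟨f⟩⟩ := CL.PSL2E.exists_psl_of_simple hG fun t ht => by
    have h9 : ψ.1 t = 0 := (h1 t (by rwa [ht, Nat.prime_dvd_prime_iff_eq hp.out Nat.prime_two])
      Nat.prime_two (by rw [ht])).2 (by omega)
    have h10 : ∀ c : centralizer ({t} : Set G), c⁻¹ = c := fun c => by
      by_cases hc : (c : G) = 1
      · simp [show c = 1 from Subtype.ext hc]
      obtain ⟨q, hq, hqc⟩ := Nat.exists_prime_and_dvd (mt orderOf_eq_one_iff.1 hc)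
      have h11 := (h7 t h9).coprime_dvd_left (CL.Small.orderOf_dvd_card_of_mem c.2)
      have h12 := (h1 c (fun h' => hp.out.one_lt.ne' (Nat.eq_one_of_dvd_coprimes h11 h'
        (dvd_mul_left _ _))) hq hqc).2 fun h' => hq.one_lt.ne' (Nat.eq_one_of_dvd_coprimes h11 hqc
          (h'.mul_right _))
      refine inv_eq_of_mul_eq_one_right (Subtype.ext ?_)
      rw [coe_mul, ← sq, ← ht, ← CL.Small.orderOf_eq_of_isConj (h8 _ _ h9 h12),
        pow_orderOf_eq_one, coe_one]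
    exact ⟨⟨fun a b => by rw [← h10 (a * b), mul_inv_rev, h10, h10]⟩⟩
  have h9 := CL.SL.gcd_mul_card_PSL_two (F := GaloisField 2 n)
  have h10 := GaloisField.card 2 n (by omega)
  have h11 : 2 ∣ 2 ^ n := dvd_pow_self 2 (by omega)
  have h12 := Nat.one_le_two_pow (n := n)
  rw [← Nat.card_congr f.toEquiv, hn, h10, (Nat.prime_two.coprime_iff_not_dvd.2 (by omega)).gcd_eq_one,
    one_mul] at h9
  have h13 : p + 1 = 2 ^ n := by
    generalize 2 ^ n = Q at *
    zify [Nat.one_le_pow 2 Q h12] at h9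
    have : ((p + 1 : ℤ) - Q) * ((p + 1) ^ 2 + (p + 1) * Q + Q ^ 2 - 1) = 0 := by
      linear_combination h9
    rcases mul_eq_zero.1 this with h | h
    · omega
    · nlinarith [hp.out.two_le]
  have := Fintype.ofFinite (GaloisField 2 n)
  exact ⟨⟨n, h13⟩, GaloisField 2 n, inferInstance, this,
    by rw [← Nat.card_eq_fintype_card, h10, h13], ⟨f⟩⟩

theorem le_two (T : D.Typ r u m) (hm : m = u + 2) (ht : D.Y.card = m) (he : e = u + 1)
    (h0 : (D.Xs 1 (1 + r * p)).card = 0) (h1 : (D.Xs 1 ((u + 1) * (u * m + 1))).card = 1)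
    (h2 : (D.Xs (-1) (p - 1)).card + 1 = u) (h3 : (D.Xs (-1) (m * (p + u + 1))).card = 0)
    (hε : D.ε = 1) (hY : ∀ θ ∈ D.Y, charDegree θ.1 = p + u + 1) : u ≤ 2 := by
  classical
  have := Fintype.ofFinite G
  obtain ⟨ψ, hψ⟩ := Finset.card_eq_one.1 h1
  obtain ⟨hψX, hδ, hd⟩ := D.mem_Xs.1 (hψ.ge (Finset.mem_singleton_self ψ))
  obtain ⟨θ, hθ, θ', hθ', hne⟩ := Finset.one_lt_card.1 (show 1 < D.Y.card by omega)
  have hpm := T.hp
  have hG : Nat.card G = charDegree ψ.1 * (p + u + 1) * p := by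
    rw [h.card_G, T.n_eq, hd, he]; ring
  have hB : p + u + 1 = (u + 2) ^ 2 := by rw [hpm, hm]; ring
  have h4 := fun y => zero_or_zero (y := y) (hY θ hθ) hG (by
    rw [hd, hB, hm, show (u + 1) * (u * (u + 2) + 1) = (u + 1) ^ 3 by ring]
    exact Nat.Coprime.pow _ _ ((Nat.coprime_self_add_right (m := u + 1) (n := 1)).2 (by simp)))
    hp.out
  have h5 : ∀ θ'' ∈ D.Y, (Nat.card G : ℂ) * classInner (θ.1 * fun g => conj (θ''.1 g)) ψ.1 =
      ((p + u + 1) ^ 2 * charDegree ψ.1 : ℕ) +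
        ∑ y with p ∣ orderOf y, θ.1 y * conj (θ''.1 y) := fun θ'' h'' => by
    rw [card_mul_classInner, ← Finset.sum_filter_add_sum_filter_not _ (fun y => p ∣ orderOf y),
      add_comm, Finset.sum_eq_single_of_mem 1 (by simp [hp.out.ne_one]) fun y hy hy1 => ?_]
    · congr 1
      · simp [IsIrrCharacter.apply_one_eq_charDegree (Subtype.prop _), hY θ hθ, hY θ'' h'', sq]
      · exact Finset.sum_congr rfl fun y hy => by
          simp [D.val_X ψ hψX y (Finset.mem_filter.1 hy).2, hδ]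
    · obtain ⟨q, hq, hqy⟩ := Nat.exists_prime_and_dvd (mt orderOf_eq_one_iff.1 hy1)
      have h6 := h4 y (Finset.mem_filter.1 hy).2 hq hqy
      by_cases h7 : q ∣ p + u + 1
      · simp [h6.1 h7]
      · simp [h6.2 h7]
  have hΛ := θ.2.isCharacter.mul θ'.2.isCharacter.conj
  obtain ⟨μ, hμ⟩ := hΛ.exists_nat_inner ψ.2.isCharacter
  have hμ1 : 1 ≤ μ := by
    have h6 := D.inner_mul_conj hθ hθ' hne hψX
    have h7 := h5 θ hθ
    rw [eq_add_of_sub_eq h6, hμ, hδ] at h7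
    by_contra h8
    obtain rfl : μ = 0 := by omega
    simp only [Complex.mul_conj'] at h7
    have h9 : (Nat.card G : ℝ) = ((p + u + 1) ^ 2 * charDegree ψ.1 : ℕ) +
        ∑ y with p ∣ orderOf y, ‖θ.1 y‖ ^ 2 := by
      simp only [Int.cast_one, Nat.cast_zero, add_zero, mul_one] at h7
      exact_mod_cast h7
    have h10 : (p + u + 1) ^ 2 * charDegree ψ.1 ≤ Nat.card G := by
      rw [← Nat.cast_le (α := ℝ), h9]
      exact le_add_of_nonneg_right (by positivity)
    have := ψ.2.charDegree_pos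
    rw [hG] at h10
    nlinarith [Nat.mul_pos this (show 0 < p + u + 1 by omega)]
  choose ν hν using fun χ : IrrCharacter G => hΛ.exists_nat_inner χ.2.isCharacter
  obtain ⟨κ, hκ⟩ := hΛ.exists_nat_inner D.mem_Θ.ch
  have h6 : (D.Xs (-1) (p - 1)).card ≤ ∑ χ ∈ D.Xs (-1) (p - 1), ν χ := by
    rw [Finset.card_eq_sum_ones]
    refine Finset.sum_le_sum fun χ hχ => ?_
    obtain ⟨h6, h7, -⟩ := D.mem_Xs.1 hχ
    have h8 := D.inner_mul_conj hθ hθ' hne h6
    obtain ⟨k, hk⟩ := (θ.2.isCharacter.mul θ.2.isCharacter.conj).exists_nat_inner χ.2.isCharacter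
    rw [hν, hk, h7] at h8
    have : (k : ℤ) - ν χ = -1 := by exact_mod_cast h8
    omega
  have h7 : ∀ y, (if p ∣ orderOf y then (p : ℂ) else 0) =
      m * (1 + ψ.1 y - ∑ χ ∈ D.Xs (-1) (p - 1), χ.1 y) - D.Θ y := fun y => by
    have h7 := T.sum_split (fun χ => (D.δ χ : ℂ) * χ.1 y)
    rw [Finset.card_eq_zero.1 h0, Finset.card_eq_zero.1 h3, hψ, Finset.sum_congr rfl
      (g := fun χ => -χ.1 y) (s₁ := D.Xs (-1) _) fun χ hχ => by simp [(D.mem_Xs.1 hχ).2.1]] at h7
    split_ifs with hy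
    · rw [D.mem_Θ.val y hy, D.val_X ψ hψX y hy, Finset.sum_congr rfl (g := fun _ => -1)
        fun χ hχ => by simp [D.val_X χ (D.mem_Xs.1 hχ).1 y hy, (D.mem_Xs.1 hχ).2.1], hε, hδ,
        Finset.sum_const]
      have e1 : (p : ℂ) = m * (u + 1) + 1 := by exact_mod_cast hpm
      have e2 : ((D.Xs (-1) (p - 1)).card : ℂ) + 1 = u := by exact_mod_cast h2
      simp only [nsmul_eq_mul, Int.cast_neg, Int.cast_one]
      linear_combination e1 - m * e2
    · have h8 := D.eqnΘ hy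
      rw [h7, hε, ht] at h8
      simp [hδ] at h8
      rw [h8]
      ring
  have h8 : (p : ℂ) * ∑ y with p ∣ orderOf y, θ.1 y * conj (θ'.1 y) =
      Nat.card G * (m * (μ - (∑ χ ∈ D.Xs (-1) (p - 1), ν χ : ℕ)) - κ) := by
    have h8 : classInner (θ.1 * fun g => conj (θ'.1 g)) 1 = 0 := by
      rw [← θ.2.inner_of_ne θ'.2 fun h => hne (Subtype.ext h), classInner_def, classInner_def]
      simp
    have h9 : (fun y => if p ∣ orderOf y then (p : ℂ) else 0) =
        m • (1 + ψ.1 - ∑ χ ∈ D.Xs (-1) (p - 1), χ.1) - D.Θ := funext fun y => by simp [h7]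
    have h10 := card_mul_classInner (θ.1 * fun g => conj (θ'.1 g))
      fun y => if p ∣ orderOf y then (p : ℂ) else 0
    conv_lhs at h10 => rw [h9, classInner_sub_right, classInner_nsmul_right, classInner_sub_right,
      classInner_add_right, classInner_sum_right, h8, hμ, hκ]
    simp only [hν, zero_add] at h10
    rw [Nat.cast_sum, h10, Finset.sum_filter, Finset.mul_sum]
    refine Finset.sum_congr rfl fun y _ => ?_
    split_ifs <;> simp [mul_comm]
  have h9 := h5 θ' hθ'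
  rw [hμ] at h9
  have h10 : (p : ℂ) * μ = (p + u + 1) + (m * (μ - (∑ χ ∈ D.Xs (-1) (p - 1), ν χ : ℕ)) - κ) :=
    mul_left_cancel₀ (card_ne_zero G) (by
      have h10 : (Nat.card G : ℂ) = charDegree ψ.1 * (p + u + 1) * p := by exact_mod_cast hG
      push_cast at h9
      linear_combination p * h9 + h8 - (p + u + 1) * h10)
  generalize ∑ χ ∈ D.Xs (-1) (p - 1), ν χ = s at *
  have h11 : (p : ℤ) * μ = (p + u + 1) + (m * (μ - s) - κ) := by exact_mod_cast h10
  subst hm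
  obtain ⟨k, rfl⟩ : ∃ k, μ = k + 1 := ⟨μ - 1, by omega⟩
  obtain ⟨l, hl⟩ : ∃ l, s + 1 = u + l := ⟨s + 1 - u, by omega⟩
  zify at hpm hl
  push_cast at h11
  by_contra h12
  have h13 : (3 : ℤ) ≤ u := by omega
  rw [hpm, show (s : ℤ) = u + l - 1 by omega] at h11
  nlinarith [mul_nonneg (show (0 : ℤ) ≤ u by omega) (show (0 : ℤ) ≤ k by omega),
    mul_nonneg (show (0 : ℤ) ≤ u by omega) (show (0 : ℤ) ≤ l by omega),
    mul_nonneg (sq_nonneg (u : ℤ)) (show (0 : ℤ) ≤ k by omega)]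

/-- The self-centralizing case with a non-classical factorization. -/
theorem nag_core [IsSimpleGroup G] (hG : ¬ IsMulCommutative G) (T : D.Typ r u m) :
    (p = 13 ∧ Nat.card G = 5616) ∨ (3 < p ∧ (∃ k : ℕ, p + 1 = 2 ^ k) ∧
      ∃ (F : Type) (_ : Field F) (_ : Fintype F), Fintype.card F = p + 1 ∧
        Nonempty (G ≃* Matrix.ProjectiveSpecialLinearGroup (Fin 2) F)) := by
  obtain ⟨ht, he, h0, h1, h2, h3, hε, hY, hm⟩ := h.config hG T
  obtain ⟨hu, hum, hpm, hr⟩ := T.toU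
  have hG' := h.card_G
  rw [T.n_eq, he] at hG'
  by_cases h4 : u = 1
  · subst h4
    obtain ⟨ψ, hψ⟩ := Finset.card_eq_one.1 h1
    obtain ⟨hψX, hδ, hd⟩ := D.mem_Xs.1 (hψ.ge (Finset.mem_singleton_self ψ))
    obtain ⟨θ, hθ⟩ := D.Y_nonempty
    have h5 := D.card_X
    exact Or.inr ⟨by omega, h.psl_of_two hG (by omega) (Finset.eq_singleton_iff_unique_mem.2
      ⟨hψX, fun χ hχ => Finset.card_le_one.1 (by omega) _ hχ _ hψX⟩) hδ hε hθ (by omega)
      (hY θ hθ) (by rw [hG', hpm]; ring)⟩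
  · obtain ⟨χ, hχ⟩ := Finset.card_pos.1 (show 0 < (D.Xs (-1) (p - 1)).card by omega)
    obtain ⟨h5, -, h6⟩ := D.mem_Xs.1 hχ
    have h7 := D.deg_X_dvd h.hz h5
    rw [h6, h.index_cent h.hz, he, T.n_eq, show p - 1 = (u + 1) * m by rw [mul_comm]; omega] at h7
    have h8 := (U.cop2 u m).dvd_of_dvd_mul_left (Nat.dvd_of_mul_dvd_mul_left (by omega) h7)
    rw [hpm, add_assoc, add_assoc, Nat.dvd_add_right (dvd_mul_right _ _)] at h8
    have h9 : m = u + 2 := by have := Nat.le_of_dvd (by omega) h8; omega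
    have h10 := h.le_two T h9 ht he h0 h1 h2 h3 hε hY
    obtain rfl : u = 2 := by omega
    subst h9
    exact Or.inl ⟨hpm, by rw [hG', hpm]⟩

end SC

end CL.D1
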