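import Cfsg.Agent.INV.ReeT
import Cfsg.Agent.INV.Bender.BTI
import Cfsg.Agent.CHAR.TI
import Cfsg.Agent.CHAR.FTLinear
import Cfsg.Agent.CHAR.InvolFormula
import Cfsg.Agent.CHAR.BrauerPerm
import Cfsg.Agent.CHAR.Burnside
import Cfsg.Agent.S0060

/-!
# The Sylow `3`-subgroups of a group of Ree type are not abelian (exceptional characters)
-/

set_option autoImplicit false

namespace CL.ReeT

open Cfsg Subgroup CL.Char CL.Bender MulAction

variable {G : Type*} [Group G] [Fintype G] {K A : Subgroup G}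

/-- exceptional characters for a set of characters of `K` on which `A` acts freely -/
theorem exists_exc (h : TIA K A) [Fintype K] (S : IrrCharacter K → Prop)
    (hS : ∀ (v : A) θ, S θ → S (letI := h.act; v • θ))
    (hf : ∀ (v : A) θ, S θ → (letI := h.act; v • θ) = θ → v = 1) (h2 : Nat.card A < Nat.card {θ // S θ}) :
    ∃ (Y : G → ℂ) (n : IrrCharacter K → ℕ) (O : Finset (IrrCharacter K)) (c : ℕ) (ε : ℤ), IsIrrCharacter G Y ∧
      (fun k : K => Y k) = ∑ θ : IrrCharacter K, (n θ : ℂ) • θ.1 ∧ O.card = Nat.card A ∧ (∀ θ ∈ O, S θ) ∧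
      (ε = 1 ∨ ε = -1) ∧ (∀ θ ∈ O, (n θ : ℤ) = c + ε) ∧ (∀ θ, S θ → θ ∉ O → n θ = c) ∧
      Nat.card {θ // S θ} * charDegree Y ^ 2 ≤ Nat.card A * Nat.card G := by
  classical
  let _ := h.act
  have := Fintype.ofFinite A
  let T : SubMulAction A (IrrCharacter K) := ⟨{θ | S θ}, fun v _ hθ => hS v _ hθ⟩
  have hb := bijective_smul_out (A := A) (X := T) fun v x e => hf v x x.2 (congrArg Subtype.val e)
  have := Fintype.ofFinite (orbitRel.Quotient A T)
  let r : orbitRel.Quotient A T → IrrCharacter K := fun i => (i.out : T)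
  have hr : ∀ i j (v : A), r i = v • r j ↔ i = j ∧ v = 1 := fun i j v => ⟨fun e => by
    have := hb.1 (a₁ := (i, 1)) (a₂ := (j, v)) (Subtype.ext ((one_smul _ _).trans e))
    exact ⟨congrArg Prod.fst this, (congrArg Prod.snd this).symm⟩, by rintro ⟨rfl, rfl⟩; rw [one_smul]⟩
  have hcnt : ∀ i j, h.cnt (r i) (r j) = if i = j then 1 else 0 := fun i j => by
    simp only [TIA.cnt, hr]
    split_ifs with e <;> simp [e]
  have hc : Nat.card (orbitRel.Quotient A T) * Nat.card A = Nat.card {θ // S θ} := by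
    rw [← Nat.card_prod]; exact Nat.card_eq_of_bijective _ hb
  have : Nontrivial (orbitRel.Quotient A T) := Finite.one_lt_card_iff_nontrivial.1 (by
    by_contra! e
    exact absurd (hc ▸ Nat.mul_le_mul_right _ e) (by omega))
  obtain ⟨i₀, j₀, h0⟩ := exists_pair_ne (orbitRel.Quotient A T)
  obtain ⟨ε, hε, μ, h3, h4, h5⟩ := exists_exceptional_of_gram i₀ (fun i => indFun K ((r i).1 - (r i₀).1))
    (by rw [sub_self, indFun_zero]) (fun i => ((r i).2.isGen.sub (r i₀).2.isGen).ind)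
    (fun i => by rw [indFun_one, Pi.sub_apply, h.apply_one, h.apply_one, sub_self, mul_zero])
    fun i j hi hj => by
      rw [h.inner_ind_sub, hcnt, hcnt, hcnt, hcnt, if_neg hi, if_neg hj.symm, if_pos rfl]
      split_ifs <;> norm_num
  obtain ⟨n, h6, h7⟩ := ((h3 i₀).isCharacter.res K).exists_nat_coeffs
  have h8 : ∀ (v : A) θ, n (v • θ) = n θ := fun v θ => by
    apply Nat.cast_injective (R := ℂ)
    rw [← h6, ← h6, ← classInner_comp_equiv (h.cj v).toEquiv (fun k : K => μ i₀ k) θ.1]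
    refine congrArg₂ _ (funext fun k => ?_) rfl
    have := (h3 i₀).isClassFunction k (v : G)⁻¹
    rw [inv_inv, ← h.coe_cj] at this
    exact this.symm
  have h9 : ∀ j, j ≠ i₀ → (n (r i₀) : ℂ) = n (r j) + ε := fun j hj => by
    have e := classInner_indFun_left K ((r j).1 - (r i₀).1) (h3 i₀).isClassFunction
    rw [h5, classInner_smul_left, classInner_sub_left, (h3 i₀).inner_self,
      (h3 j).inner_of_ne (h3 i₀) (h4.ne hj), classInner_sub_left,
      (r j).2.isCharacter.inner_comm ((h3 i₀).isCharacter.res K),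
      (r i₀).2.isCharacter.inner_comm ((h3 i₀).isCharacter.res K), h6, h6] at e
    linear_combination e
  obtain ⟨ε, rfl, hε'⟩ : ∃ e : ℤ, ε = e ∧ (e = 1 ∨ e = -1) := by
    rcases hε with rfl | rfl
    exacts [⟨1, by simp, Or.inl rfl⟩, ⟨-1, by simp, Or.inr rfl⟩]
  have h10 : ∀ j, j ≠ i₀ → (n (r i₀) : ℤ) = n (r j) + ε := fun j hj => by exact_mod_cast h9 j hj
  refine ⟨μ i₀, n, Finset.univ.image fun v : A => v • r i₀, n (r j₀), ε, h3 i₀, h7, ?_, ?_, hε', ?_,
    fun θ hθ hO => ?_, ?_⟩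
  · rw [Finset.card_image_of_injective _ fun v v' e => ?_, Finset.card_univ, Nat.card_eq_fintype_card]
    exact (inv_mul_eq_one.1 ((hr i₀ i₀ _).1 (by rw [mul_smul, eq_inv_smul_iff]; exact e)).2)
  · simp only [Finset.mem_image]
    rintro _ ⟨v, -, rfl⟩
    exact hS v _ (i₀.out : T).2
  · simp only [Finset.mem_image]
    rintro _ ⟨v, -, rfl⟩
    rw [h8, h10 j₀ h0.symm]
  · obtain ⟨⟨j, v⟩, e⟩ := hb.2 ⟨θ, hθ⟩
    obtain rfl : v • r j = θ := congrArg Subtype.val e
    have hj : j ≠ i₀ := by rintro rfl; exact hO (Finset.mem_image.2 ⟨v, Finset.mem_univ _, rfl⟩)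
    have := h10 j hj
    have := h10 j₀ h0.symm
    rw [h8]
    omega
  · have h11 := sum_norm_sq_le_card_centralizer Finset.univ μ (fun i _ => h3 i) h4.injOn 1
    rw [Finset.sum_congr rfl (g := fun _ => (charDegree (μ i₀) : ℝ) ^ 2) fun i _ => by
      have := congrFun (h5 i) 1
      rw [indFun_one, Pi.sub_apply, h.apply_one, h.apply_one, sub_self, mul_zero, Pi.smul_apply, smul_eq_mul,
        Pi.sub_apply, eq_comm, mul_eq_zero, sub_eq_zero] at this
      rw [this.resolve_left (by rcases hε' with rfl | rfl <;> simp), (h3 i₀).apply_one_eq_charDegree,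
        Complex.norm_natCast], Finset.sum_const, Finset.card_univ, nsmul_eq_mul, ← Nat.card_eq_fintype_card] at h11
    have h12 : Nat.card (orbitRel.Quotient A T) * charDegree (μ i₀) ^ 2 ≤ Nat.card G :=
      le_trans (by exact_mod_cast h11) (card_le_card_group (centralizer {(1 : G)}))
    rw [← hc, mul_comm _ (Nat.card A), mul_assoc]
    exact Nat.mul_le_mul_left _ h12

theorem false_of_tia [IsSimpleGroup G] (h : TIA K A) (hA : ∀ a ∈ A, ∀ b ∈ A, a * b = b * a) {t : A} {q : ℕ}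
    (hq : 5 < q) (hK : Nat.card K = q ^ 3) (hAc : Nat.card A + 1 = q)
    (hG : Nat.card G = q ^ 3 * ((q ^ 3 + 1) * (q - 1))) (hodd : Odd q) (ht : t * t = 1) (hZ : center G = ⊥)
    (hfix : Nat.card (K ⊓ centralizer {(t : G)} : Subgroup G) = q)
    (hfpf : ∀ v : A, ∀ k ∈ K, k ≠ 1 → Commute (v : G) k → v = 1 ∨ v = t) : False := by
  classical
  let _ := h.act
  have := Fintype.ofFinite K
  let φ : K →* K := MonoidHom.mk' (fun k => h.cj t k * k⁻¹) fun a b => by
    rw [map_mul, mul_inv_rev, mul_assoc, mul_assoc, ← mul_assoc (h.cj t b), h.comm' _ a⁻¹]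
  have hφ : ∀ k, φ k = h.cj t k * k⁻¹ := fun _ => rfl
  set W := φ.range.map K.subtype with hW
  have hWK : W ≤ K := map_subtype_le _
  have := Fintype.ofFinite W
  have hWc : Nat.card W = q ^ 2 := by
    have h1 : φ.ker.map K.subtype = K ⊓ centralizer {(t : G)} := by
      ext x
      simp only [mem_map, MonoidHom.mem_ker, hφ, mul_inv_eq_one, Subtype.ext_iff, h.coe_cj, mem_inf,
        mem_centralizer_singleton_iff, mul_assoc, inv_mul_eq_iff_eq_mul]
      exact ⟨by rintro ⟨y, h1, rfl⟩; exact ⟨y.2, h1⟩, fun hx => ⟨⟨x, hx.1⟩, hx.2, rfl⟩⟩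
    have h2 := φ.ker.card_mul_index
    rw [index_ker, ← card_map_of_injective K.subtype_injective, h1, hfix, hK, pow_succ', Nat.mul_right_inj
      (by omega)] at h2
    rwa [card_map_of_injective K.subtype_injective]
  have tt : (t : G) * t = 1 := congrArg Subtype.val ht
  have hinv : ∀ w ∈ W, (t : G) * w * t = w⁻¹ := by
    rintro _ ⟨_, ⟨k, rfl⟩, rfl⟩
    have := h.comm _ k.2 _ (inv_mem (h.cj t k).2)
    simp only [hφ, coe_subtype, coe_mul, h.coe_cj, InvMemClass.coe_inv, inv_eq_of_mul_eq_one_right tt,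
      mul_inv_rev, inv_inv] at this ⊢
    calc _ = (t * t : G) * k * (t * ((k : G)⁻¹ * t)) := by group
      _ = _ := by rw [tt, one_mul]
  have hC : ∀ w ∈ W, w ≠ 1 → ∀ g, g * w = w * g → g ∈ K := fun w hw h1 g hg => by
    obtain ⟨k, hk, v, hv, rfl⟩ := h.ti g w (hWK hw) h1 (by rw [hg, mul_inv_cancel_right]; exact hWK hw)
    have h2 : Commute v w := by
      rw [mul_assoc, ← mul_assoc w, ← h.comm k hk w (hWK hw), mul_assoc, mul_right_inj] at hg
      exact hg
    rcases hfpf ⟨v, hv⟩ w (hWK hw) h1 h2 with e | e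
    · rw [show v = 1 from congrArg Subtype.val e, mul_one]; exact hk
    · subst e
      have h3 := hinv w hw
      rw [show ((⟨v, hv⟩ : A) : G) = v from rfl, h2.eq, mul_assoc, tt, mul_one] at h3
      exact (h1 (orderOf_eq_one_iff.1 (Nat.eq_one_of_dvd_coprimes (Nat.coprime_two_left.2 (hK ▸ hodd.pow))
        (orderOf_dvd_of_pow_eq_one (by rw [sq, ← eq_inv_iff_mul_eq_one]; exact h3))
        (K.orderOf_dvd_natCard (hWK hw))))).elim
  have hN : ∀ k ∈ K, ∀ v ∈ A, k * v ∈ normalizer (W : Set G) := fun k hk v hv => by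
    refine mul_mem (centralizer_le_normalizer _ (mem_centralizer_iff.2 fun w hw => h.comm w (hWK hw) k hk))
      (MSS.mem_normalizer_of_cj_le (MSS.cj_le_iff_forall.2 ?_))
    rintro _ ⟨_, ⟨x, rfl⟩, rfl⟩
    refine ⟨_, ⟨⟨v * x * v⁻¹, (mem_normalizer_iff.1 (h.norm hv) _).1 x.2⟩, rfl⟩, ?_⟩
    simp only [hφ, coe_subtype, coe_mul, h.coe_cj, InvMemClass.coe_inv, inv_eq_of_mul_eq_one_right tt]
    calc _ = (t * v : G) * x * (v⁻¹ * t) * v * (x : G)⁻¹ * v⁻¹ := by group
      _ = _ := by rw [hA _ t.2 v hv, hA _ (inv_mem hv) _ t.2]; group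
  have hTI : ∀ g : G, g ∉ normalizer (W : Set G) → ∀ x, x ∉ center G → ∀ w ∈ W, ∀ w' ∈ W, w ≠ 1 → w' ≠ 1 →
      x * w = w * x → g * x * g⁻¹ * w' = w' * (g * x * g⁻¹) → False := fun g hg x hx w hw w' hw' h1 h2 h3 h4 => by
    obtain ⟨k, hk, v, hv, rfl⟩ := h.ti g x (hC w hw h1 x h3) (fun e => hx (e ▸ one_mem _)) (hC w' hw' h2 _ h4)
    exact hg (hN k hk v hv)
  have hWZ : W ⊓ center G = ⊥ := by rw [hZ, inf_bot_eq]
  have hM : ∀ M : Subgroup G, M.Normal → W ≤ M → M = ⊤ := fun M hM h1 => hM.eq_bot_or_eq_top.resolve_left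
    fun e => by
      rw [e, le_bot_iff] at h1
      rw [h1, card_bot] at hWc
      exact absurd hWc (Nat.one_lt_pow (by norm_num) (by omega)).ne
  have hres : ∀ n : IrrCharacter K → ℕ, classInner (fun w : W => (∑ θ : IrrCharacter K, (n θ : ℂ) • θ.1)
      ⟨w, hWK w.2⟩) (fun _ => 1) = (∑ θ with t • θ = θ, n θ : ℕ) := fun n => by
    rw [show (fun w : W => (∑ θ : IrrCharacter K, (n θ : ℂ) • θ.1) ⟨w, hWK w.2⟩) =
      ∑ θ : IrrCharacter K, (n θ : ℂ) • fun w : W => θ.1 ⟨w, hWK w.2⟩ from funext fun w => by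
        simp only [Finset.sum_apply, Pi.smul_apply], classInner_sum_left, Finset.sum_filter]
    push_cast
    refine Finset.sum_congr rfl fun θ _ => ?_
    obtain ⟨f, hf⟩ := θ.2.exists_hom_of_comm h.comm'
    have h1 := (isIrrCharacter_hom (f.comp (inclusion hWK))).inner isIrrCharacter_one
    have h2 : (fun w : W => θ.1 ⟨w, hWK w.2⟩) = fun w => ((f.comp (inclusion hWK)) w : ℂ) := by rw [hf]; rfl
    rw [classInner_smul_left, h2, h1, mul_ite, mul_one, mul_zero]
    refine if_congr ⟨fun e => Subtype.ext (funext fun k => ?_), fun e => funext ?_⟩ rfl rfl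
    · have h3 : (f (φ k) : ℂ) = 1 := congrFun e ⟨φ k, _, ⟨k, rfl⟩, rfl⟩
      rw [Units.val_eq_one, hφ, map_mul, map_inv, mul_inv_eq_one] at h3
      rw [h.act_apply, hf]
      exact congrArg Units.val h3
    · rintro ⟨_, _, ⟨k, rfl⟩, rfl⟩
      have h3 := congrFun (congrArg Subtype.val e) k
      rw [h.act_apply, hf] at h3
      change (f (φ k) : ℂ) = 1
      rw [Units.val_eq_one, hφ, map_mul, map_inv, mul_inv_eq_one]
      exact Units.ext h3
  have hF : (Finset.univ.filter fun θ : IrrCharacter K => t • θ = θ).card = q := by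
    have h1 := hres fun _ => 1
    rw [← Finset.card_eq_sum_ones, classInner_def, Finset.sum_eq_single 1 (fun w _ hw => ?_) (by simp), hWc] at h1
    · simp only [Finset.sum_apply, Nat.cast_one, one_smul, map_one, mul_one] at h1
      rw [Finset.sum_congr rfl (f := fun θ : IrrCharacter K => θ.1 ⟨(1 : W), hWK (1 : W).2⟩) (g := fun _ => (1 : ℂ))
        fun θ _ => h.apply_one θ, Finset.sum_const,
        Finset.card_univ, ← Nat.card_eq_fintype_card, card_irr_of_comm h.comm', hK, nsmul_eq_mul, mul_one] at h1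
      apply Nat.cast_injective (R := ℂ)
      have : (q : ℂ) ≠ 0 := Nat.cast_ne_zero.2 (by omega)
      rw [← h1]
      push_cast
      field_simp
    · have h2 := sum_degree_mul (⟨w, hWK w.2⟩ : K)
      rw [if_neg fun e : (⟨w, hWK w.2⟩ : K) = 1 => hw (Subtype.ext (congrArg Subtype.val e :))] at h2
      simp only [h.apply_one, one_mul] at h2
      simp only [Finset.sum_apply, Nat.cast_one, one_smul, h2, zero_mul]
  have hS : (Finset.univ.filter fun θ : IrrCharacter K => ¬ t • θ = θ).card + q = q ^ 3 := by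
    rw [← hF, add_comm, Finset.card_filter_add_card_filter_not, Finset.card_univ, ← Nat.card_eq_fintype_card,
      card_irr_of_comm h.comm', hK, hF]
  have hS' : Nat.card {θ : IrrCharacter K // ¬ t • θ = θ} + q = q ^ 3 := by
    rwa [Nat.card_eq_fintype_card, Fintype.card_subtype]
  have hq3 : 36 * q ≤ q ^ 3 := by nlinarith
  obtain ⟨Y, n, O, c, ε, h1, h2, h3, h4, h5, h6, h7, h8⟩ := exists_exc h (fun θ => ¬ t • θ = θ)
    (fun v θ hθ e => hθ (by
      rwa [← mul_smul, show t * v = v * t from Subtype.ext (hA _ t.2 _ v.2), mul_smul, smul_left_cancel_iff] at e))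
    (fun v θ hθ e => by
      by_contra hv
      refine hθ ?_
      rw [show θ = irrOne K from Subtype.ext (eq_one_of_fixed_aut (h.cj v) (fun g hg => ?_) θ.2
        (congrFun (congrArg Subtype.val e))), h.smul_one]
      obtain ⟨x, hx⟩ := isConj_iff.1 hg
      rw [h.comm' x, mul_inv_cancel_right, Subtype.ext_iff, h.coe_cj, mul_assoc, inv_mul_eq_iff_eq_mul] at hx
      by_contra hg
      rcases hfpf v g g.2 (fun e => hg (Subtype.ext e)) hx.symm with e' | e'
      exacts [hv e', hθ (e' ▸ e)]) (by omega)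
  set σ := ∑ θ with t • θ = θ, n θ
  have h9 : (charDegree Y : ℤ) = σ + (c * (q ^ 3 - q) + ε * (q - 1)) := by
    have e : charDegree Y = ∑ θ, n θ := by
      apply Nat.cast_injective (R := ℂ)
      have := congrFun h2 1
      simp only [Finset.sum_apply, Pi.smul_apply, h.apply_one, smul_eq_mul, mul_one, OneMemClass.coe_one] at this
      rw [← h1.apply_one_eq_charDegree, this, Nat.cast_sum]
    have hO : O ⊆ Finset.univ.filter fun θ : IrrCharacter K => ¬ t • θ = θ := fun θ hθ =>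
      Finset.mem_filter.2 ⟨Finset.mem_univ _, h4 θ hθ⟩
    rw [e, ← Finset.sum_filter_add_sum_filter_not _ (fun θ => t • θ = θ), Nat.cast_add, ← Finset.sum_sdiff hO,
      Finset.sum_congr rfl (g := fun _ => c) fun θ hθ => h7 θ (Finset.mem_filter.1 (Finset.mem_sdiff.1 hθ).1).2
        (Finset.mem_sdiff.1 hθ).2, Nat.cast_add, Nat.cast_sum O, Finset.sum_congr rfl h6, Finset.sum_const,
      Finset.sum_const, Finset.card_sdiff_of_subset hO, h3, smul_eq_mul, nsmul_eq_mul, Nat.cast_mul,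
      Nat.cast_sub (by omega), eq_sub_of_add_eq (show (Nat.card A : ℤ) + 1 = q by exact_mod_cast hAc),
      eq_sub_of_add_eq (show ((Finset.univ.filter fun θ : IrrCharacter K => ¬ t • θ = θ).card : ℤ) + q = q ^ 3 by
        exact_mod_cast hS)]
    ring
  obtain rfl : c = 0 := by
    by_contra hc
    have e0 : (36 * q : ℤ) ≤ q ^ 3 := by exact_mod_cast hq3
    have e1 : (q : ℤ) ^ 3 - 2 * q + 1 ≤ charDegree Y := by
      have : (1 : ℤ) ≤ c := by omega
      rcases h5 with rfl | rfl <;> nlinarith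
    have e2 := mul_le_mul_of_nonneg_left (pow_le_pow_left₀ (by omega) e1 2) (show (0 : ℤ) ≤ q ^ 3 - q by omega)
    zify [show 1 ≤ q by omega] at h8 hS' hAc hG
    rw [eq_sub_of_add_eq hS', eq_sub_of_add_eq hAc, hG] at h8
    obtain ⟨y, rfl⟩ : ∃ y, q = y + 6 := ⟨q - 6, by omega⟩
    refine absurd (e2.trans h8) (not_le.2 (sub_pos.1 ?_))
    push_cast
    ring_nf
    positivity
  obtain ⟨θ, hθ⟩ := Finset.card_pos.1 (show 0 < O.card by omega)
  obtain rfl : ε = 1 := h5.resolve_right fun e => by have := h6 θ hθ; omega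
  have h10 : Y 1 ≠ 1 := fun e => by
    rw [h1.apply_one_eq_charDegree, Nat.cast_eq_one] at e
    rw [e] at h9
    omega
  have h11 := feit_thompson_bound W hWZ hTI h1 (c := σ) (by
    by_contra! e
    have e1 : W ≤ charKer Y := fun w hw => (h1.isCharacter.mem_charKer).2 (e w hw)
    rw [h1.charKer_eq_bot_of_simple (fun e => h10 (congrFun e 1)), le_bot_iff] at e1
    rw [e1, card_bot] at hWc
    exact absurd hWc (Nat.one_lt_pow (by norm_num) (by omega)).ne) (by rw [← hres, ← h2])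
  have h12 := feit_thompson_bound' W hWZ hTI (fun a ha b hb => h.comm a (hWK ha) b (hWK hb)) hM h1 h10
  rw [hWc] at h12
  rw [hWc, ← mul_pow] at h11
  have h13 := lt_of_pow_lt_pow_left₀ 2 (Nat.zero_le _) h11
  have h14 := lt_of_pow_lt_pow_left₀ 2 (Nat.zero_le _) h12
  have h15 : charDegree Y + 1 = σ + q := by omega
  nlinarith

/-- The Sylow `3`-subgroups of a simple group of Ree type are not abelian. -/
theorem RB.not_comm {G : Type*} [Group G] [Finite G] [IsSimpleGroup G] (hG : ¬ IsMulCommutative G) {q : ℕ}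
    {P : Sylow 3 G} {t c s : G} (h : RB q P t c s) : ¬ IsMulCommutative P := fun hP => by
  classical
  have := Fintype.ofFinite G
  have hq := h.big
  obtain ⟨g, hg⟩ := Cfsg.Agent.S0060.result 3 P hP (by
    refine (pCore_normal 3 G).eq_bot_or_eq_top.resolve_right fun e => ?_
    have h1 : IsPGroup 3 (zpowers c) := (isPGroup_pCore 3 G).to_le (e ▸ le_top)
    have h2 := (MSS.sylIn_top P).le_of_normalizes h1 le_top h.H_le
    have h3 := h.card_H
    rw [← inf_eq_left.2 h2, h.H_inf, card_bot] at h3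
    omega)
  have hQ : (P : Subgroup G) ⊓ (g • P : Sylow 3 G) = ⊥ := hg
  have tt : t * t = 1 := by rw [← sq, ← h.ordt, pow_orderOf_eq_one]
  obtain ⟨n, hn⟩ := h.pow
  refine false_of_tia (K := P) (A := zpowers c) (t := ⟨t, h.mem⟩) ⟨fun a ha b hb =>
    congrArg Subtype.val (mul_comm' (⟨a, ha⟩ : (P : Subgroup G)) ⟨b, hb⟩), h.H_le,
    fun v h1 h2 => mem_bot.1 (h.H_inf P ▸ ⟨h1, h2⟩), h.ti hQ⟩ (fun a ha b hb =>
    congrArg Subtype.val (mul_comm' (⟨a, ha⟩ : zpowers c) ⟨b, hb⟩)) hq (h.card_sylow P)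
    (by rw [h.card_H]; omega) h.card (hn ▸ Odd.pow (by decide)) (Subtype.ext tt)
    ((inferInstance : (center G).Normal).eq_bot_or_eq_top.resolve_right fun e => hG ⟨⟨fun a b =>
      mem_center_iff.1 (e.ge (mem_top b)) a⟩⟩) h.fix fun v k hk h1 hc => ?_
  refine or_iff_not_imp_left.2 fun hv => Subtype.ext (SylowAux.eq_of_isCyclic_subgroup (H := zpowers c)
    inferInstance v.2 h.mem (orderOf_eq_prime (by rw [sq, h.fpf hQ v.2 hk h1 hc]) fun e => hv (Subtype.ext e))
    h.ordt)

end CL.ReeT
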